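import Cfsg.Agent.H39.HN.Xb1.Data

/-!
Steps of a derivation (generated data).
-/

set_option autoImplicit false
set_option maxRecDepth 100000
set_option linter.all false
set_option Elab.async false

namespace H39
namespace HN
namespace Xb1

open H93.CosetI

noncomputable section

def st4 : List Step := [(0,[],[]),(0,[],[]),(4,[15,1804,11,1611,459,1630,1538,2000,2002],[1981,18]),(0,[],[]),(0,[],[]),(0,[],[]),(0,[],[]),(0,[],[]),(0,[],[]),(0,[],[]),(0,[],[]),(0,[],[]),(6,[1835,1832,1526,2006,2008,2010,2012,2014,2016,2018,2020,2022],[1981,18,2005]),(0,[],[]),(0,[],[]),(0,[],[]),(0,[],[]),(0,[],[]),(0,[],[]),(0,[],[]),(0,[],[]),(0,[],[]),(0,[],[]),(8,[15,1829,1824,1776,1876,1974,2026,2028,2030,2032,2034,2036,2038,2040,2042,2044],[1981,18,1998]),(0,[],[]),(0,[],[]),(0,[],[]),(0,[],[]),(0,[],[]),(0,[],[]),(0,[],[]),(11,[15,1829,1824,1776,1778,1780,1782,2048,2050,2052,20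54,2056,2058,2060],[1981,18,2005,2025,2023]),(0,[],[]),(0,[],[]),(0,[],[]),(0,[],[]),(0,[],[]),(0,[],[]),(5,[1835,1251,1214,1900,1902,1930,1932,1968,1970,1972,2064,2066,2068,2070,2072,2074],[1981,18,1998,2047]),(0,[],[]),(0,[],[]),(0,[],[]),(0,[],[]),(0,[],[]),(0,[],[]),(0,[],[]),(0,[],[]),(0,[],[]),(0,[],[]),(0,[],[]),(0,[],[]),(7,[1835,1251,1214,1900,1902,1904,1906,2078,2080,2082,2084,2086,2088,2090,2092,2094,2096,2098,2100],[1981,18,2005,2025]),(0,[],[]),(0,[],[]),(0,[],[]),(0,[],[]),(0,[],[]),(0,[],[]),(0,[],[]),(0,[],[]),(0,[],[]),(0,[],[]),(24,[15,1804,1116,1452,1454,1456,1458,1754,1512,2104,2106,2108,2110,2112,2114,2116,2118,2120,2122],[1981,18,2005,2025,2023,2063]),(0,[],[]),(0,[],[]),(0,[],[]),(0,[],[]),(0,[],[]),(0,[],[]),(0,[],[]),(0,[],[]),(0,[],[]),(0,[],[]),(0,[],[]),(0,[],[]),(0,[],[]),(0,[],[]),(11,[18,1998,2130,2132,2136,2138,2140,2142,2144,2146,21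48,2150,2152],[17,15,13,1116,605,1887]),(0,[],[]),(0,[],[]),(15,[18,1998,2130,2132,2136,2138,2140,2142,2144,2146,2148,2150,2152],[17,15,13,1116,605,603,1967,1965]),(0,[],[]),(0,[],[]),(0,[],[]),(0,[],[]),(0,[],[]),(0,[],[]),(16,[18,1998,2130,2132,2134,2162,2164,2166,2168,2170,2172],[17,15,13,11,1107,459,457,1193,1655,23]),(0,[],[]),(0,[],[]),(0,[],[]),(0,[],[]),(0,[],[]),(0,[],[]),(0,[],[]),(0,[],[]),(0,[],[]),(7,[1995,719,717,2156,2158,2176,2178,2180,2182,2184,2186,2188,2190,2192],[17,15,13,1116,1379,1091,239,237,235]),(0,[],[]),(0,[],[]),(2,[20],[2005]),(1,[2201],[]),(1,[2203,2004],[]),(1,[2203,2003],[]),(1,[23,2206],[]),(1,[2203,2025],[]),(1,[2174,2210],[]),(1,[2209],[]),(1,[2215,2001],[]),(1,[2212],[]),(1,[2219,2173],[]),(1,[2022,2220],[]),(1,[2219,2174],[]),(1,[2223],[]),(1,[2227,2171],[]),(1,[2062,2228],[]),(1,[2231],[]),(1,[2233,2169],[]),(1,[2124,2234],[]),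(1,[2237],[]),(1,[2239,2167],[]),(1,[2122,2240],[]),(1,[2243],[]),(1,[2245,2165],[]),(1,[2120,2246],[]),(1,[2249],[]),(1,[2251,2163],[]),(1,[2118,2252],[]),(1,[2255],[]),(1,[2257,2135],[]),(1,[2116,2258],[]),(1,[2261],[]),(1,[2263,2133],[]),(0,[],[]),(0,[],[]),(0,[],[]),(0,[],[]),(16,[1998,735,2156,2158,2176,2196,2266,2268,2270,2272],[2205,2225,2023,2063,2125,2123,2121,2119,2117,2264,2198]),(3,[22,24],[2225,2103,2101]),(0,[],[]),(0,[],[]),(0,[],[]),(0,[],[]),(0,[],[]),(0,[],[]),(0,[],[]),(0,[],[]),(6,[22,1654,1191,2278,2280,2282,2284,2286,2288,2290,2292],[21,1998,2047,2077]),(0,[],[]),(0,[],[]),(0,[],[]),(0,[],[]),(0,[],[]),(0,[],[]),(0,[],[]),(0,[],[]),(0,[],[]),(0,[],[]),(0,[],[]),(14,[22,24,26,2306,2308,2310,2312,2314,2316],[21,1998,2047,2077,2295,2293,2291,2289,2287,2285,2283,2281]),(0,[],[]),(0,[],[]),(0,[],[]),(2,[1654],[2216]),(1,[2327],[]),(1,[2329,2217],[]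),(1,[2329,1540],[]),(1,[1190,2332],[]),(1,[2329,1539],[]),(1,[1193,2336],[]),(1,[2335],[]),(1,[2341,1542],[]),(1,[2279,2342],[]),(1,[2339],[]),(1,[2347,1631],[]),(1,[2344],[]),(1,[2351,2279],[]),(1,[2351,2280],[]),(1,[2351,2319],[]),(1,[1545,2356],[]),(1,[2359],[]),(1,[2361,2317],[]),(0,[],[]),(0,[],[]),(0,[],[]),(6,[24,26,28,30,32,34,2364,2366,2368],[2331,1192,2348,551,1367,1729]),(0,[],[]),(0,[],[]),(0,[],[]),(0,[],[]),(0,[],[]),(14,[24,2276,2304,2320,2372,2374,2376,2378,2380],[2331,1192,2348,551,1367,1729,2371,2369,2367,2365,35,33]),(0,[],[]),(0,[],[]),(0,[],[]),(0,[],[]),(0,[],[]),(0,[],[]),(0,[],[]),(0,[],[]),(7,[24,2276,2100,2296,2298,2300,2302,2384,2386,2388,2390,2392,2394,2396,2398],[2331,1192,2348,551,549,547,501,499]),(0,[],[]),(0,[],[]),(0,[],[]),(0,[],[]),(0,[],[]),(0,[],[]),(0,[],[]),(0,[],[]),(23,[23,2225,2103,2296,2322,2324,2402,2404,2406,2408,2410,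2412,2414,2416],[2331,1192,2348,551,1367,1729,2371,2369,2367,2365,36]),(0,[],[]),(0,[],[]),(26,[24,2276,2100,2296,2322,2324,2402,2404,2406,2408,2410,2412,2414,2416,2420,2422],[2331,1192,2348,551,1367,1729,2371,2369,2367]),(2,[26],[]),(0,[],[]),(0,[],[]),(0,[],[]),(0,[],[]),(4,[25,1654,1191,2353,1544,2428,2430,2432,2434],[2427,2306]),(0,[],[]),(0,[],[]),(0,[],[]),(0,[],[]),(0,[],[]),(0,[],[]),(0,[],[]),(0,[],[]),(8,[25,23,2204,19,1980,1835,1832,1434,1535,2438,2440,2442,2444,2446,2448,2450,2452],[2427,2306]),(0,[],[]),(0,[],[]),(3,[28,2456,2458],[2306,2455]),(4,[2306,2308,2310,2312,2314,2363,1545],[27,25,2331,1191,1189]),(1,[2462],[]),(1,[2465,2352],[]),(1,[2465,2354],[]),(1,[2465,1544],[]),(1,[1186,2470],[]),(1,[2473],[]),(1,[2475,2428],[]),(1,[2475,2362],[]),(1,[2475,1546],[]),(1,[1184,2480],[]),(1,[2483],[]),(1,[2485,1548],[]),(0,[],[]),(0,[],[]),(0,[],[]),(0,[],[]),(0,[],[]),(0,[],[])]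

theorem ok4 : data.stepsOK st4 1000 = true := by decide +kernel

def st5 : List Step := [(14,[28,2456,2488,2490,2492,2494,2496,2498],[27,25,2331,1192,2348,551,1367,1729,2371,2369,2367,2365,36]),(0,[],[]),(0,[],[]),(0,[],[]),(0,[],[]),(0,[],[]),(0,[],[]),(29,[28,2456,2488,2490,2492,2506,2508,2510,2512],[27,25,2331,1192,2348,551,1367,1729,2371,2369,2367,2365,36,2501,2499,2497]),(2,[30],[]),(0,[],[]),(0,[],[]),(0,[],[]),(0,[],[]),(0,[],[]),(0,[],[]),(0,[],[]),(0,[],[]),(0,[],[]),(0,[],[]),(6,[2456,2488,2518,2520,2522,2524,2526,2528,2530,2532,2534,2536],[2517,2383,2381]),(0,[],[]),(0,[],[]),(0,[],[]),(0,[],[]),(0,[],[]),(0,[],[]),(0,[],[]),(0,[],[]),(0,[],[]),(0,[],[]),(0,[],[]),(8,[29,2306,2308,2310,2312,2502,2540,2542,2544,2546,2548,2550,2552,2554,2556,2558,2560],[2517,2383]),(0,[],[]),(0,[],[]),(3,[32,2564,2566],[2383,2563]),(0,[],[]),(0,[],[]),(0,[],[]),(0,[],[])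,(0,[],[]),(0,[],[]),(0,[],[]),(0,[],[]),(0,[],[]),(0,[],[]),(0,[],[]),(0,[],[]),(0,[],[]),(0,[],[]),(8,[2383,2563,2576,2578,2580,2582,2584,2586,2588,2590,2592,2594,2596],[31,29,2306,2437,2435,2433]),(0,[],[]),(0,[],[]),(0,[],[]),(0,[],[]),(0,[],[]),(0,[],[]),(0,[],[]),(0,[],[]),(0,[],[]),(2,[34],[]),(0,[],[]),(0,[],[]),(0,[],[]),(0,[],[]),(0,[],[]),(0,[],[]),(0,[],[]),(0,[],[]),(0,[],[]),(0,[],[]),(6,[2564,2604,2620,2622,2624,2626,2628,2630,2632,2634,2636,2638],[2619,36,2501]),(0,[],[]),(0,[],[]),(0,[],[]),(0,[],[]),(0,[],[]),(0,[],[]),(0,[],[]),(0,[],[]),(8,[33,2383,2570,2572,2574,2616,2642,2644,2646,2648,2650,2652,2654,2656],[2619,36,2419,2417,2415]),(0,[],[]),(0,[],[]),(0,[],[]),(0,[],[]),(0,[],[]),(0,[],[]),(0,[],[]),(0,[],[]),(0,[],[]),(0,[],[]),(11,[33,2383,2570,2572,2660,2662,2664,2666,2668,2670,2672,2674,2676,2678],[2619,36,2501,2641,2639]),(0,[],[]),(0,[]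,[]),(0,[],[]),(0,[],[]),(0,[],[]),(0,[],[]),(5,[2564,2566,2568,2576,2578,2600,2602,2610,2612,2614,2682,2684,2686,2688,2690,2692],[2619,36,2419,2417]),(0,[],[]),(0,[],[]),(15,[33,2383,2570,2572,2660,2662,2664,2666,2668,2670,2672,2674,2676,2696,2698],[2619,36,2501,2641,2639,2637]),(0,[],[]),(0,[],[]),(0,[],[]),(0,[],[]),(0,[],[]),(0,[],[]),(0,[],[]),(0,[],[]),(0,[],[]),(0,[],[]),(0,[],[]),(0,[],[]),(7,[2564,2566,2568,2576,2578,2580,2582,2702,2704,2706,2708,2710,2712,2714,2716,2718,2720,2722,2724],[2619,36,2501,2641]),(0,[],[]),(0,[],[]),(0,[],[]),(0,[],[]),(0,[],[]),(0,[],[]),(0,[],[]),(0,[],[]),(0,[],[]),(23,[33,2383,2563,2576,2606,2608,2728,2730,2732,2734,2736,2738,2740,2742,2744],[2619,36,2501,2641,2639,2637,2635,2633,2631,2629]),(0,[],[]),(0,[],[]),(0,[],[]),(0,[],[]),(24,[33,2516,29,2426,2276,2100,2296,2322,2324,2402,2404,2406,2408,2410,2412,2748,2750,2752,2754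],[2619,36,2501,2641,2639,2681]),(0,[],[]),(0,[],[]),(0,[],[]),(0,[],[]),(0,[],[]),(0,[],[]),(0,[],[]),(0,[],[]),(0,[],[]),(0,[],[]),(0,[],[]),(0,[],[]),(0,[],[]),(0,[],[]),(0,[],[]),(25,[33,2516,2456,2488,2518,2758,2760,2762,2764,2766,2768,2770,2772,2774,2776,2778,2780,2782,2784,2786],[2619,36,2501,2641,2727]),(0,[],[]),(0,[],[]),(26,[2564,2566,2568,2576,2606,2608,2728,2730,2732,2734,2736,2738,2740,2742,2790,2792],[2619,36,2501,2641,2639,2637,2635,2633,2631]),(0,[],[]),(0,[],[]),(27,[33,2516,2456,2488,2518,2758,2760,2762,2764,2766,2768,2770,2772,2774,2776,2796,2798],[2619,36,2501,2641,2727,2789,2787,2785]),(0,[],[]),(0,[],[]),(0,[],[]),(0,[],[]),(0,[],[]),(4,[36,38,2802,2804,2806,2808,2810],[35,33,31,2456]),(0,[],[]),(0,[],[]),(0,[],[]),(0,[],[]),(0,[],[]),(0,[],[]),(0,[],[]),(0,[],[]),(0,[],[]),(0,[],[]),(0,[],[]),(0,[],[]),(0,[],[]),(0,[],[]),(16,[36,2419,2814,2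816,2818,2832,2834,2836,2838,2840],[35,33,31,2456,2813,2811,2809,2807,2805,2803,40]),(0,[],[]),(0,[],[]),(0,[],[]),(0,[],[]),(0,[],[]),(0,[],[]),(0,[],[]),(0,[],[]),(0,[],[]),(0,[],[]),(0,[],[]),(0,[],[]),(0,[],[]),(0,[],[]),(23,[36,2419,2420,2822,2844,2846,2860,2862,2864,2866,2868,2870],[35,33,31,29,27,25,2331,1192,2348,551,549,547,501]),(0,[],[]),(0,[],[]),(0,[],[]),(0,[],[]),(0,[],[]),(0,[],[]),(0,[],[]),(0,[],[]),(0,[],[]),(0,[],[]),(0,[],[]),(0,[],[]),(0,[],[]),(0,[],[]),(0,[],[]),(0,[],[]),(0,[],[]),(25,[36,38,2802,2804,2884,2886,2888,2890,2892,2894,2896,2898,2900,2902,2904,2906],[35,33,31,29,2306,2437,2435,2433,2599]),(0,[],[]),(27,[36,38,2802,2804,2884,2886,2888,2890,2892,2894,2896,2898,2900,2902,2904,2910],[35,33,31,29,2306,2437,2435,2433,2431]),(0,[],[]),(0,[],[]),(28,[36,38,2802,2804,2884,2886,2888,2890,2892,2914,2916],[35,33,31,29,2306,2437,2435,2433,25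99,2909,2907,2905,2903,2901]),(2,[38],[2501]),(1,[2921],[]),(1,[2923,2500],[]),(1,[2923,2499],[]),(1,[2803,2926],[]),(1,[2923,2641],[]),(1,[41,2930],[]),(1,[2928],[]),(1,[2935,2804],[]),(1,[2935,2803],[]),(1,[2933],[]),(1,[2941,2639],[]),(1,[2842,2942],[]),(1,[2941,2727],[]),(1,[2944],[]),(1,[2949,2842],[]),(1,[2949,2841],[]),(1,[2680,2952],[]),(1,[2955],[]),(1,[2957,2839],[]),(1,[2756,2958],[]),(1,[2961],[]),(1,[2963,2837],[]),(1,[2754,2964],[]),(1,[2967],[]),(1,[2969,2835],[]),(1,[2752,2970],[]),(1,[2973],[]),(1,[2975,2833],[]),(1,[2750,2976],[]),(1,[2979],[]),(1,[2981,2819],[]),(1,[2748,2982],[]),(1,[2981,2820],[]),(1,[2985],[]),(1,[2989,2817],[]),(1,[2415,2990],[]),(1,[2993],[]),(1,[2995,2815],[]),(0,[],[])]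

theorem ok5 : data.stepsOK st5 1250 = true := by decide +kernel

def st6 : List Step := [(0,[],[]),(0,[],[]),(0,[],[]),(0,[],[]),(0,[],[]),(0,[],[]),(0,[],[]),(11,[2419,2420,2822,2824,2826,2828,2998,3000,3002,3004,3006,3008,3010,3012],[2925,40,2951,2637,2635]),(0,[],[]),(0,[],[]),(0,[],[]),(0,[],[]),(0,[],[]),(0,[],[]),(0,[],[]),(0,[],[]),(0,[],[]),(0,[],[]),(0,[],[]),(0,[],[]),(5,[37,2364,2425,2830,3016,3018,3020,3022,3024,3026,3028,3030,3032,3034,3036,3038],[2925,40,2946,2789]),(0,[],[]),(0,[],[]),(15,[2419,2420,2822,2824,2826,2828,2998,3000,3002,3004,3006,3008,3010,3042,3044],[2925,40,2951,2637,2635,2633]),(0,[],[]),(0,[],[]),(0,[],[]),(0,[],[]),(16,[2419,2420,2822,2824,2856,2858,3048,3050,3052,3054],[2925,40,2951,2681,2757,2755,2753,2751,2749,2414,2695]),(20,[2419,2420,2822,2844,2846,2848,2850,2852,2854],[2925,40,2951,2637,2635,2633,3047,3045,3043,3011,3009,3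007,3005,3003,3001]),(1,[3059],[]),(1,[3061,2999],[]),(1,[2854,3062],[]),(1,[3064],[]),(1,[3067,2853],[]),(1,[2828,3068],[]),(1,[3071],[]),(1,[3073,2851],[]),(0,[],[]),(0,[],[]),(0,[],[]),(0,[],[]),(0,[],[]),(0,[],[]),(0,[],[]),(0,[],[]),(0,[],[]),(0,[],[]),(0,[],[]),(0,[],[]),(0,[],[]),(0,[],[]),(0,[],[]),(0,[],[]),(24,[2419,2997,2695,3076,3078,3080,3082,3084,3086,3088,3090,3092,3094,3096,3098,3100,3102,3104,3106],[2925,40,2951,2637,2635,3015]),(0,[],[]),(0,[],[]),(0,[],[]),(0,[],[]),(0,[],[]),(0,[],[]),(0,[],[]),(0,[],[]),(0,[],[]),(0,[],[]),(0,[],[]),(0,[],[]),(0,[],[]),(0,[],[]),(0,[],[]),(25,[2419,2997,2415,2748,2986,3110,3112,3114,3116,3118,3120,3122,3124,3126,3128,3130,3132,3134,3136,3138],[2925,40,2951,2637,2701]),(0,[],[]),(0,[],[]),(27,[2419,2997,2415,2748,2986,3110,3112,3114,3116,3118,3120,3122,3124,3126,3128,3142,3144],[2925,40,2951,2637,2701,3141,3139,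3137]),(0,[],[]),(3,[2939,3148],[40,2946,2725]),(0,[],[]),(0,[],[]),(0,[],[]),(4,[40,42,2874,3152,3154,3156],[39,2419,2417,2415,2659]),(0,[],[]),(0,[],[]),(0,[],[]),(0,[],[]),(0,[],[]),(0,[],[]),(0,[],[]),(6,[2939,2936,2884,3160,3162,3164,3166,3168,3170,3172],[39,2419,2417,2695,3057]),(0,[],[]),(0,[],[]),(0,[],[]),(0,[],[]),(0,[],[]),(0,[],[]),(0,[],[]),(0,[],[]),(0,[],[]),(0,[],[]),(0,[],[]),(0,[],[]),(0,[],[]),(0,[],[]),(8,[40,2946,3176,3178,3180,3182,3184,3186,3188,3190,3192,3194,3196,3198,3200,3202],[39,2419,2420]),(0,[],[]),(0,[],[]),(0,[],[]),(0,[],[]),(0,[],[]),(0,[],[]),(0,[],[]),(0,[],[]),(0,[],[]),(0,[],[]),(0,[],[]),(0,[],[]),(0,[],[]),(5,[2939,3148,3150,3206,3208,3210,3212,3214,3216,3218,3220,3222,3224,3226,3228,3230],[39,2419,2420,3205]),(0,[],[]),(0,[],[]),(0,[],[]),(0,[],[]),(0,[],[]),(0,[],[]),(0,[],[]),(16,[40,2946,3176,3178,3180,3238,3240,3242,324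4,3246],[39,2419,2417,2415,2659,3159,3157,3155,3153,2875,44]),(0,[],[]),(0,[],[]),(0,[],[]),(0,[],[]),(0,[],[]),(0,[],[]),(0,[],[]),(17,[2939,3148,3150,3206,3250,3252,3254,3256,3258,3260,3262],[39,2419,2420,3205,3233,3231,3229,3227,3225,3223,3221]),(0,[],[]),(18,[2939,3148,3150,3206,3250,3252,3254,3256,3258,3260,3262,3264,3220,3222,3224,3226,3266],[39,2419,2420,3205,3203]),(0,[],[]),(0,[],[]),(0,[],[]),(0,[],[]),(0,[],[]),(0,[],[]),(0,[],[]),(0,[],[]),(0,[],[]),(0,[],[]),(23,[40,2946,2725,3206,3250,3252,3272,3274,3276,3278,3280,3282,3284,3286,3288],[39,2419,2417,2695,3057,3175,3173,3171,3169,3167]),(0,[],[]),(0,[],[]),(0,[],[]),(0,[],[]),(2,[42],[2951]),(1,[3301],[]),(1,[3303,2950],[]),(1,[3303,2681],[]),(1,[2875,3306],[]),(1,[3303,2637],[]),(1,[45,3310],[]),(1,[3308],[]),(1,[3315,3152],[]),(1,[3315,2876],[]),(1,[2678,3318],[]),(1,[3315,2875],[]),(1,[3313],[]),(1,[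3325,2635],[]),(1,[3248,3326],[]),(1,[3325,2701],[]),(1,[47,3330],[]),(1,[3321],[]),(1,[3335,2878],[]),(1,[3328],[]),(1,[3339,3248],[]),(1,[3339,3247],[]),(1,[3014,3342],[]),(1,[3333],[]),(1,[3347,3141],[]),(1,[3347,2699],[]),(1,[3345],[]),(1,[3353,3245],[]),(1,[3108,3354],[]),(1,[3357],[]),(1,[3359,3243],[]),(1,[3106,3360],[]),(1,[3363],[]),(1,[3365,3241],[]),(1,[3104,3366],[]),(1,[3369],[]),(1,[3371,3239],[]),(1,[3102,3372],[]),(1,[3375],[]),(1,[3377,3181],[]),(1,[3100,3378],[]),(1,[3377,3182],[]),(1,[3381],[]),(1,[3385,3179],[]),(0,[],[]),(0,[],[]),(0,[],[]),(0,[],[]),(0,[],[]),(0,[],[]),(11,[2946,2725,3206,3208,3210,3212,3388,3390,3392,3394,3396,3398],[3305,44,3341,2633,2631,2795,2793]),(0,[],[]),(0,[],[]),(0,[],[]),(0,[],[]),(0,[],[]),(0,[],[]),(0,[],[]),(0,[],[]),(0,[],[]),(0,[],[]),(0,[],[]),(0,[],[]),(5,[41,2939,3148,3234,3402,3404,3406,3408,3410,3412,3414,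3416,3418,3420,3422,3424],[3305,44,46,3348]),(0,[],[]),(0,[],[]),(0,[],[]),(0,[],[]),(0,[],[]),(0,[],[]),(17,[41,2939,3148,3234,3236,3428,3430,3432,3434,3436,3438],[3305,44,46,3348,3427,3425,3423,3421,3419,3417,3415]),(0,[],[]),(18,[41,2939,3148,3234,3236,3428,3430,3432,3434,3436,3438,3440,3414,3416,3418,3420,3442],[3305,44,46,3348,3139]),(20,[2946,2725,3206,3250,3252,3254,3256,3258,3260],[3305,44,3341,2633,2631,2629,2747,2745,2790,3401,3399,3397,3395,3393,3391]),(1,[3447],[]),(1,[3449,3390],[]),(0,[],[]),(0,[],[]),(0,[],[]),(0,[],[]),(0,[],[]),(0,[],[]),(0,[],[]),(0,[],[]),(0,[],[]),(0,[],[]),(0,[],[]),(0,[],[]),(0,[],[]),(0,[],[]),(0,[],[]),(0,[],[]),(24,[2946,3176,3270,3452,3454,3456,3458,3460,3462,3464,3466,3468,3470,3472,3474,3476,3478,3480,3482],[3305,44,3341,2633,2631,2795]),(0,[],[]),(0,[],[]),(0,[],[]),(0,[],[]),(0,[],[]),(0,[],[]),(0,[],[])]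

theorem ok6 : data.stepsOK st6 1500 = true := by decide +kernel

def st7 : List Step := [(0,[],[]),(0,[],[]),(0,[],[]),(0,[],[]),(0,[],[]),(0,[],[]),(0,[],[]),(0,[],[]),(25,[2946,3176,3387,3100,3382,3486,3488,3490,3492,3494,3496,3498,3500,3502,3504,3506,3508,3510,3512,3514],[3305,44,3341,2633,3047]),(0,[],[]),(0,[],[]),(0,[],[]),(0,[],[]),(29,[41,2939,2936,2806,2808,3518,3520,3522,3524],[3305,44,3341,2633,2631,2629,2627,2625,2623,2621,2605,2565,33,31,2456,2813]),(0,[],[]),(0,[],[]),(4,[44,3292,3294,3528,3530],[43,2946,2789,2787,2785,2801]),(0,[],[]),(0,[],[]),(0,[],[]),(0,[],[]),(0,[],[]),(0,[],[]),(0,[],[]),(0,[],[]),(6,[3323,3316,3296,3534,3536,3538,3540,3542,3544,3546,3548],[43,2946,2789,3041]),(0,[],[]),(0,[],[]),(0,[],[]),(0,[],[]),(0,[],[]),(0,[],[]),(0,[],[]),(0,[],[]),(0,[],[]),(0,[],[]),(0,[],[]),(0,[],[]),(0,[],[]),(11,[44,46,48,50,3558,3560,3562,3564,3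566,3568,3570,3572,3574,3576],[43,2946,2789,3041,3551]),(0,[],[]),(0,[],[]),(0,[],[]),(0,[],[]),(0,[],[]),(0,[],[]),(0,[],[]),(0,[],[]),(0,[],[]),(0,[],[]),(0,[],[]),(0,[],[]),(5,[3323,2679,2696,3580,3582,3584,3586,3588,3590,3592,3594,3596,3598,3600,3602],[43,2946,2725,2723,2721]),(0,[],[]),(0,[],[]),(0,[],[]),(16,[44,46,48,50,52,54,56,58,3606,3608,3610],[43,2946,2789,2787,2785,2801,3533,3531,3529,3295]),(0,[],[]),(0,[],[]),(0,[],[]),(0,[],[]),(0,[],[]),(0,[],[]),(0,[],[]),(21,[44,46,48,50,3558,3560,3620,3622,3624,3626],[43,2946,2789,3041,3551,3579,3577,3575,3573,3571,3569,3567,3565]),(0,[],[]),(0,[],[]),(0,[],[]),(0,[],[]),(0,[],[]),(0,[],[]),(0,[],[]),(2,[3292],[3341]),(1,[3644],[]),(1,[3647,3293],[]),(1,[3647,3294],[]),(1,[3014,3650],[]),(1,[3647,3613],[]),(1,[2632,3654],[]),(1,[3653],[]),(1,[3659,3528],[]),(1,[3657],[]),(1,[3663,3632],[]),(1,[3663,3611],[]),(1,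[2630,3666],[]),(1,[3669],[]),(1,[3671,3609],[]),(1,[2794,3672],[]),(1,[3675],[]),(1,[3677,3607],[]),(1,[3484,3678],[]),(1,[3680],[]),(1,[3683,3484],[]),(1,[3683,3483],[]),(1,[58,3686],[]),(1,[3689],[]),(1,[3691,3481],[]),(1,[56,3692],[]),(1,[3695],[]),(1,[3697,3479],[]),(1,[54,3698],[]),(1,[3701],[]),(1,[3703,3477],[]),(1,[52,3704],[]),(1,[3707],[]),(1,[3709,3475],[]),(1,[3559,3710],[]),(1,[3712],[]),(1,[3715,3560],[]),(1,[3715,3559],[]),(0,[],[]),(0,[],[]),(0,[],[]),(0,[],[]),(0,[],[]),(0,[],[]),(0,[],[]),(0,[],[]),(0,[],[]),(0,[],[]),(0,[],[]),(0,[],[]),(5,[45,3323,2679,3336,3720,3722,3724,3726,3728,3730,3732,3734,3736,3738,3740,3742],[3341,2633,3047,3517]),(0,[],[]),(0,[],[]),(0,[],[]),(0,[],[]),(16,[46,3350,3580,3582,3614,3616,3746,3748,3750,3752],[3341,2633,2631,2795,3685,59,57,55,53,51,3618]),(0,[],[]),(0,[],[]),(0,[],[]),(0,[],[]),(0,[],[]),(17,[45,3323,267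9,3336,2880,2882,3756,3758,3760,3762,3764],[3341,2633,3047,3517,3745,3743,3741,3739,3737,3735,3733]),(0,[],[]),(18,[45,3323,2679,3336,2880,2882,3756,3758,3760,3762,3764,3766,3732,3734,3736,3738,3768],[3341,2633,3047,3517,3515]),(0,[],[]),(0,[],[]),(2,[48],[3348]),(1,[3777],[]),(1,[3779,3349],[]),(1,[3779,3139],[]),(1,[51,3782],[]),(1,[3779,3427],[]),(1,[3619,3786],[]),(1,[3785],[]),(1,[3791,3137],[]),(1,[3791,3445],[]),(1,[3718,3794],[]),(1,[3788],[]),(1,[3799,3772],[]),(1,[3799,3755],[]),(1,[3799,3619],[]),(1,[3796],[]),(1,[3807,3716],[]),(1,[3807,3473],[]),(1,[3807,3718],[]),(0,[],[]),(0,[],[]),(0,[],[]),(0,[],[]),(0,[],[]),(0,[],[]),(0,[],[]),(6,[47,3649,3015,3660,3642,3814,3816,3818,3820,3822,3824,3826],[3781,3805,3802]),(14,[47,45,3304,2946,3176,3387,3100,3102,3104,3106],[3781,3805,3802,3829,3827,3825,3823,3821,3819,3817,3815,3643]),(1,[3831],[]),(1,[3833,3661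],[]),(0,[],[]),(0,[],[]),(0,[],[]),(0,[],[]),(0,[],[]),(0,[],[]),(0,[],[]),(0,[],[]),(0,[],[]),(0,[],[]),(0,[],[]),(2,[52],[3792]),(1,[3859],[]),(1,[3861,3793],[]),(1,[3861,3135],[]),(1,[3553,3864],[]),(1,[3861,3147],[]),(1,[55,3868],[]),(1,[3866],[]),(1,[3873,3554],[]),(1,[3873,3553],[]),(1,[3871],[]),(1,[3879,3145],[]),(0,[],[]),(0,[],[]),(4,[51,3780,47,3649,2633,3664,3634,3882,3884],[3863,54]),(0,[],[]),(0,[],[]),(0,[],[]),(0,[],[]),(0,[],[]),(0,[],[]),(0,[],[]),(0,[],[]),(0,[],[]),(6,[3813,3808,3620,3888,3890,3892,3894,3896,3898,3900,3902,3904],[3863,54,3887]),(0,[],[]),(0,[],[]),(0,[],[]),(0,[],[]),(0,[],[]),(0,[],[]),(0,[],[]),(0,[],[]),(0,[],[]),(0,[],[]),(8,[51,3805,3800,3774,3836,3856,3908,3910,3912,3914,3916,3918,3920,3922,3924,3926],[3863,54,3880]),(0,[],[]),(0,[],[]),(0,[],[]),(0,[],[]),(0,[],[]),(0,[],[]),(5,[3813,3443,3422,3838,3840,3846,3848,3850,38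52,3854,3930,3932,3934,3936,3938,3940],[3863,54,3880,3929]),(0,[],[]),(0,[],[]),(0,[],[]),(0,[],[]),(0,[],[]),(0,[],[]),(0,[],[]),(0,[],[]),(0,[],[]),(0,[],[]),(0,[],[]),(0,[],[]),(7,[3813,3443,3422,3838,3840,3842,3844,3944,3946,3948,3950,3952,3954,3956,3958,3960,3962,3964,3966],[3863,54,3887,3907]),(0,[],[]),(0,[],[]),(0,[],[]),(0,[],[]),(0,[],[]),(0,[],[]),(0,[],[]),(0,[],[]),(0,[],[]),(16,[54,3880,3970,3972,3974,3976,3978,3980,3982,3984,3986],[53,51,49,47,3341,2633,2631,2795,3685,59]),(0,[],[]),(0,[],[]),(0,[],[]),(0,[],[]),(0,[],[])]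

theorem ok7 : data.stepsOK st7 1750 = true := by decide +kernel

end

end Xb1
end HN
end H39
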