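import Cfsg.Agent.H39.HN.Xb1.Data

/-!
Steps of a derivation (generated data).
-/

set_option autoImplicit false
set_option maxRecDepth 100000
set_option linter.all false
set_option Elab.async false

namespace H39
namespace HN
namespace Xb1

open H93.CosetI

noncomputable section

def st8 : List Step := [(0,[],[]),(2,[56],[3887]),(1,[4003],[]),(1,[4005,3886],[]),(1,[4005,3885],[]),(1,[59,4008],[]),(1,[4005,3907],[]),(1,[3988,4012],[]),(1,[4011],[]),(1,[4017,3883],[]),(1,[4014],[]),(1,[4021,3990],[]),(1,[4021,3988],[]),(0,[],[]),(3,[58,60],[4025,3969,3967]),(0,[],[]),(0,[],[]),(0,[],[]),(4,[4025,4022,3992,4030,4032,4034],[57,3880,3929,3927,3925]),(0,[],[]),(0,[],[]),(0,[],[]),(0,[],[]),(0,[],[]),(0,[],[]),(0,[],[]),(0,[],[]),(6,[58,3684,2793,4038,4040,4042,4044,4046,4048,4050,4052],[57,3880,3929,3943]),(0,[],[]),(0,[],[]),(0,[],[]),(0,[],[]),(0,[],[]),(0,[],[]),(0,[],[]),(0,[],[]),(0,[],[]),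(0,[],[]),(0,[],[]),(14,[58,60,62,4066,4068,4070,4072,4074,4076],[57,3880,3929,3943,4055,4053,4051,4049,4047,4045,4043,4041]),(0,[],[]),(0,[],[]),(0,[],[]),(0,[],[]),(0,[],[]),(0,[],[]),(16,[4025,3969,4056,4058,4060,4080,4082,4084,4086,4088,4090],[57,3880,3929,3927,3925,4037,4035,4033,4031,3993]),(0,[],[]),(0,[],[]),(0,[],[]),(2,[3684],[4018]),(1,[4101],[]),(1,[4103,4019],[]),(1,[4103,3636],[]),(1,[2792,4106],[]),(1,[4103,3635],[]),(1,[2795,4110],[]),(1,[4109],[]),(1,[4115,3638],[]),(1,[4039,4116],[]),(1,[4113],[]),(1,[4121,3665],[]),(1,[4118],[]),(1,[4125,4039],[]),(1,[4125,4079],[]),(1,[3641,4128],[]),(1,[4131],[]),(1,[4133,4077],[]),(0,[],[]),(0,[],[]),(0,[],[]),(6,[60,62,64,66,68,70,4136,4138,4140],[4105,2794,4122,3047,3517,3745]),(0,[],[]),(0,[],[]),(0,[],[]),(0,[],[]),(0,[],[]),(11,[59,4025,4022,3992,3994,3996,3998,4144,4146,4148,4150,4152],[4105,2794,4122,3047,3517,3515,3771]),(0,[],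[]),(0,[],[]),(20,[59,4025,4022,4093,4156,4158],[4105,2794,4122,3047,3517,3745,3743,3741,3768,4155,4153,4151,4149,4147,4145,3999,3997]),(0,[],[]),(0,[],[]),(0,[],[]),(21,[59,4025,4022,3992,3994,3996,4162,4164,4166],[4105,2794,4122,3047,3517,3515,3771,4155,4153,4151,4149,4147,4145,4000]),(2,[62],[]),(0,[],[]),(0,[],[]),(0,[],[]),(0,[],[]),(4,[61,3684,2793,4127,3640,4172,4174,4176,4178],[4171,4066]),(0,[],[]),(0,[],[]),(0,[],[]),(0,[],[]),(0,[],[]),(0,[],[]),(0,[],[]),(6,[4028,4062,4064,4094,4096,4182,4184,4186,4188,4190,4192,4194],[4171,4066,4181]),(0,[],[]),(0,[],[]),(0,[],[]),(0,[],[]),(0,[],[]),(0,[],[]),(0,[],[]),(0,[],[]),(8,[61,59,4006,55,3862,3813,3808,3562,3629,4198,4200,4202,4204,4206,4208,4210,4212],[4171,4066]),(0,[],[]),(0,[],[]),(0,[],[]),(0,[],[]),(0,[],[]),(11,[61,59,4006,55,3877,3874,3556,3630,4026,4216,4218,4220,4222,4224],[4171,4066,4181,4197,4195]),(0,[],[]),(0,[],[]),(0,[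],[]),(0,[],[]),(0,[],[]),(18,[4028,3966,3968,4022,4093,4156,4158,4160,3996,3998,4000,4169,4228,4230,4232,4234,4236],[4171,4066,4215,4213,4211]),(0,[],[]),(0,[],[]),(0,[],[]),(0,[],[]),(0,[],[]),(0,[],[]),(0,[],[]),(0,[],[]),(0,[],[]),(0,[],[]),(0,[],[]),(24,[61,3684,2794,2630,2632,3015,3835,3107,4240,4242,4244,4246,4248,4250,4252,4254,4256,4258,4260],[4171,4066,4181,4197,4195,4227]),(4,[4066,4068,4070,4072,4074,4135,3641],[63,61,4105,2793,3401]),(1,[4264],[]),(1,[4267,3640],[]),(1,[3398,4268],[]),(1,[4271],[]),(1,[4273,4172],[]),(1,[4273,4134],[]),(0,[],[]),(0,[],[]),(0,[],[]),(0,[],[]),(0,[],[]),(0,[],[]),(0,[],[]),(0,[],[]),(8,[4066,4215,4278,4280,4282,4284,4286,4288,4290,4292],[63,61,59,57,55,53,3813,3810,3471]),(0,[],[]),(0,[],[]),(0,[],[]),(0,[],[]),(0,[],[]),(16,[4066,4215,4278,4280,4282,4296,4298,4300,4302,4304],[63,61,4105,2793,3401,3399,4276,4075,4073,4071,4098]),(2,[104],[]),(2,[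210],[]),(2,[182],[819]),(1,[4313],[]),(1,[4315,818],[]),(1,[4315,817],[]),(1,[185,4318],[]),(1,[4321],[]),(1,[4323,815],[]),(1,[4323,923],[]),(1,[187,4326],[]),(1,[4329],[]),(1,[4331,921],[]),(1,[633,4332],[]),(1,[4335],[]),(1,[4337,863],[]),(2,[128],[769]),(1,[4341],[]),(1,[4343,768],[]),(1,[4343,767],[]),(1,[131,4346],[]),(1,[4343,789],[]),(1,[301,4350],[]),(1,[4349],[]),(1,[4355,765],[]),(1,[4353],[]),(1,[4359,787],[]),(1,[560,4360],[]),(1,[4359,953],[]),(1,[303,4364],[]),(1,[4363],[]),(1,[4369,841],[]),(1,[558,4370],[]),(1,[4369,785],[]),(1,[4367],[]),(1,[4377,1063],[]),(1,[4377,951],[]),(1,[305,4380],[]),(1,[4373],[]),(1,[4385,1029],[]),(1,[556,4386],[]),(1,[4385,839],[]),(1,[4383],[]),(1,[4393,949],[]),(1,[4389],[]),(1,[4397,1027],[]),(1,[554,4398],[]),(1,[4401],[]),(1,[4403,1025],[]),(1,[552,4404],[]),(1,[4407],[]),(1,[4409,1023],[]),(1,[294,4410],[]),(1,[4413],[]),(1,[4415,1021],[]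),(1,[264,4416],[]),(1,[4419],[]),(1,[4421,1019],[]),(1,[187,4422],[]),(1,[4425],[]),(1,[4427,1017],[]),(2,[88],[]),(2,[92],[]),(2,[96],[]),(4,[95,4432,91,4430,87,440,1,72,103],[4435,98]),(4,[159],[101,127,125,181,377,375,373,371,1765,154]),(4,[532,534,536,538,540,542,544],[105,77,75,442]),(2,[108],[]),(2,[112],[]),(2,[116],[]),(2,[120],[]),(2,[124],[]),(2,[132],[4356]),(1,[4453],[]),(1,[4455,4357],[]),(1,[4455,1799],[]),(1,[135,4458],[]),(1,[4455,763],[]),(1,[233,4462],[]),(1,[4461],[]),(1,[4467,1797],[]),(1,[697,4468],[]),(1,[4465],[]),(1,[4473,761],[]),(1,[4473,1790],[]),(1,[2194,4476],[]),(1,[4471],[]),(1,[4481,1795],[]),(1,[4478],[]),(1,[4485,2194],[]),(2,[136],[]),(2,[318],[]),(2,[142],[]),(2,[148],[]),(11,[147,145,4492,141,139,4488,135,4456,131,4344,84,1,72,103,159,4438,155,1764],[4495,150]),(1,[4496],[])]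

theorem ok8 : data.stepsOK st8 2000 = true := by decide +kernel

def st9 : List Step := [(1,[4499,1765],[]),(1,[4499,370],[]),(2,[162],[]),(4,[164,166,325],[163,161,4457,134,4489,138,4491,320]),(2,[176],[]),(2,[],[377]),(2,[264],[4324]),(1,[4513],[]),(1,[4515,4325],[]),(1,[4515,813],[]),(1,[267,4518],[]),(1,[4521],[]),(1,[4523,811],[]),(2,[188],[4428]),(1,[4527],[]),(1,[4529,4429],[]),(1,[4529,1015],[]),(1,[629,4532],[]),(1,[4535],[]),(1,[4537,1013],[]),(4,[187,264,266,464,466,634,636,638,640],[4531,628,4538]),(1,[4541],[]),(1,[4543,4539],[]),(1,[4543,1011],[]),(1,[493,4546],[]),(1,[4549],[]),(1,[4551,1009],[]),(2,[196],[]),(2,[202],[]),(3,[506,508],[212,562,564,566]),(1,[4559],[]),(1,[4561,568],[]),(1,[511,4562],[]),(1,[4561,567],[]),(1,[4565],[]),(1,[4569,570],[]),(2,[214],[]),(2,[218],[]),(4,[217,4572,213,4310,79,104,106,108,225],[4575,220]),(2,[234],[4474]),(1,[4579],[]),(1,[4581,4475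],[]),(1,[4581,759],[]),(1,[237,4584],[]),(1,[4581,1866],[]),(1,[4587],[]),(1,[4591,1089],[]),(1,[4591,1030],[]),(2,[326],[]),(2,[],[4338]),(2,[],[1772]),(2,[464],[4524]),(1,[4603],[]),(1,[4605,4525],[]),(1,[4605,809],[]),(1,[467,4608],[]),(1,[4611],[]),(1,[4613,807],[]),(1,[469,4614],[]),(1,[4617],[]),(1,[4619,805],[]),(2,[272],[]),(2,[288],[]),(2,[],[411]),(2,[552],[]),(2,[662],[561]),(1,[4630],[]),(1,[4633,663],[]),(1,[4633,664],[]),(1,[558,4636],[]),(1,[4639],[]),(1,[4641,666],[]),(1,[4391,4642],[]),(1,[4644],[]),(1,[4647,4391],[]),(2,[],[4378]),(2,[],[4394]),(11,[324,168,170,172,174,176,178,4510,375],[323,321,319,140,4493,144,146,4495,150,4502]),(2,[330],[]),(2,[334],[]),(2,[340],[]),(2,[350],[1929]),(1,[4663],[]),(1,[4665,1928],[]),(2,[356],[]),(2,[360],[]),(2,[770],[]),(2,[382],[]),(2,[386],[]),(2,[394],[]),(2,[398],[]),(2,[406],[]),(23,[1225,1223,1221,2467,1187,1185,2486,1550,1552,1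554,1556,1558],[453,451,449,447,445,443,73,0,441,4,487,755,1429,1427]),(1,[4684],[]),(1,[4687,1560],[]),(1,[4687,1559],[]),(1,[1518,4690],[]),(1,[4693],[]),(1,[4695,1557],[]),(2,[634],[]),(2,[470],[4620]),(1,[4701],[]),(1,[4703,4621],[]),(1,[4703,803],[]),(1,[473,4706],[]),(1,[4709],[]),(1,[4711,968],[]),(1,[4711,801],[]),(1,[475,4714],[]),(1,[4717],[]),(1,[4719,799],[]),(2,[4712],[]),(2,[476],[4720]),(1,[4725],[]),(1,[4727,4721],[]),(1,[4727,1336],[]),(1,[4727,1149],[]),(1,[479,4732],[]),(1,[4735],[]),(1,[4737,687],[]),(1,[4737,688],[]),(1,[1386,4740],[]),(1,[4742],[]),(1,[4745,1865],[]),(1,[4745,1386],[]),(4,[475,4712,970,972,974],[4729,478,4738,685,683,681,679]),(1,[4750],[]),(1,[4753,827],[]),(1,[4753,975],[]),(8,[478,4749,690,692,694,503,1638,1004,1006,4553,493,641],[477,475,473,471,469,4699,636]),(16,[478,4749,690,692,694,504,1106,9,1076,487,790,1157,685,1160,824,4755,4756],[477,475,4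723,970]),(2,[480],[4738]),(1,[4763],[]),(1,[4765,4739],[]),(1,[4765,685],[]),(1,[578,4768],[]),(1,[4765,1156],[]),(1,[483,4772],[]),(1,[4771],[]),(1,[4777,1160],[]),(1,[4777,683],[]),(1,[4775],[]),(1,[4783,791],[]),(1,[4783,956],[]),(1,[530,4786],[]),(1,[4789],[]),(1,[4791,1235],[]),(1,[1404,4792],[]),(1,[4794],[]),(1,[4797,1451],[]),(1,[1232,4798],[]),(1,[4801],[]),(1,[4803,1569],[]),(1,[1230,4804],[]),(1,[4807],[]),(1,[4809,1567],[]),(1,[1228,4810],[]),(1,[4813],[]),(1,[4815,1565],[]),(1,[1226,4816],[]),(1,[4819],[]),(1,[4821,1563],[]),(1,[954,4822],[]),(1,[4825],[]),(1,[4827,4689],[]),(1,[924,4828],[]),(1,[4831],[]),(1,[4833,1425],[]),(1,[4833,1519],[]),(1,[847,4836],[]),(1,[4833,1426],[]),(1,[844,4840],[]),(1,[4839],[]),(1,[4845,4696],[]),(1,[4843],[]),(1,[4849,1428],[]),(2,[494],[4552]),(1,[4853],[]),(1,[4855,4553],[]),(1,[4855,1007],[]),(1,[497,4858],[]),(1,[4861],[]),(1,[4863,2126],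[]),(1,[4863,1005],[]),(1,[499,4866],[]),(1,[4869],[]),(1,[4871,1639],[]),(2,[4864],[2401]),(1,[4875],[]),(1,[4877,2400],[]),(2,[534],[]),(2,[538],[]),(4,[537,4880,533,4308,77,72,442,444,545],[4883,540]),(2,[556],[]),(2,[642],[]),(2,[4778],[4780]),(1,[4890],[]),(1,[4893,4779],[]),(1,[4893,958],[]),(1,[4893,824],[]),(1,[680,4898],[]),(1,[4901],[]),(1,[4903,967],[]),(14,[602,1887],[601,599,1899,1897,1895,1893,1891,1889,1993,1994,17,15,1829,1826,1737,1735,1733,1731,1523,1521]),(1,[4906],[]),(1,[4909,2155],[]),(1,[1457,4910],[]),(1,[4913],[]),(1,[4915,2160],[]),(1,[1759,4916],[]),(1,[4919],[]),(1,[4921,1964],[]),(1,[1504,4922],[]),(1,[4925],[]),(1,[4927,1966],[]),(23,[4929,1504,1759,1458,1754,1512,2104,2106,2108,2110,2112,2114,2264],[601,599,1899,1897,1895,1893,1891,1889,1993,1994,18,1998,2047]),(1,[4930],[]),(1,[4933,2198],[]),(1,[2076,4934],[]),(1,[4937],[]),(1,[4939,2275],[]),(1,[2294,4940],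[]),(1,[4942],[]),(1,[4945,2294],[]),(1,[4945,2293],[]),(23,[1379,1091,1092,1076,487,755,842,844,924,926,1162,1164,1166,1168,1170,1172],[605,603,601,599,1899,1897,1895,1893,1891,1889]),(1,[4951],[]),(1,[4953,1993],[]),(1,[4953,1410],[]),(1,[1172,4956],[]),(1,[4959],[]),(1,[4961,1412],[]),(1,[1170,4962],[]),(1,[4965],[]),(1,[4967,1414],[]),(2,[646],[]),(23,[735,716,718,4955,1173,1171,4968,1416],[2047,2077,4947,4948,2291,2289,2287,2285,2283,2469,1187,1185,1183,1181,1283,1281,1279,1277]),(1,[4972],[]),(1,[4975,1418],[]),(1,[1164,4976],[]),(1,[4979],[]),(1,[4981,1420],[]),(2,[870],[]),(2,[774],[]),(2,[924],[4834]),(1,[4989],[]),(1,[4991,4835],[]),(1,[4991,1423],[]),(1,[927,4994],[]),(1,[4997],[])]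

theorem ok9 : data.stepsOK st9 2250 = true := by decide +kernel

def st10 : List Step := [(1,[4999,4983],[]),(2,[848],[4846]),(1,[5003],[]),(1,[5005,4847],[]),(1,[5005,1555],[]),(1,[1275,5008],[]),(1,[5011],[]),(1,[5013,1553],[]),(4,[847,924,926,1162,1164,1276,1278,1280,1282],[5007,1274,5014]),(1,[5017],[]),(1,[5019,5015],[]),(1,[5019,1551],[]),(1,[1181,5022],[]),(1,[5025],[]),(1,[5027,2487],[]),(2,[856],[]),(2,[874],[]),(2,[878],[]),(4,[877,5032,873,4984,751,88,378,770,885],[5035,880]),(2,[1276],[]),(2,[2476],[2478]),(1,[5040],[]),(1,[5043,2477],[]),(1,[5043,2430],[]),(1,[2314,5046],[]),(1,[5043,2913],[]),(1,[5049],[]),(1,[5053,2599],[]),(1,[2503,5054],[]),(1,[5057],[]),(1,[5059,2909],[]),(1,[2505,5060],[]),(1,[5063],[]),(1,[5065,2907],[]),(11,[1187,1185,5029,1181,1283],[2466,1190,1655,23,21,19,1995,1175,1173,1171,1169,1167,5039,1278]),(25,[1190,2330,24,26,28,2456,2488,2490,2492,2506,250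8,2510],[1189,1187,2478,5050,2911,2905,2903,2901,2899,2897,2895,2893,2891,2889]),(1,[5071],[]),(1,[5073,2888],[]),(1,[5073,2887],[]),(1,[2513,5076],[]),(1,[5079],[]),(1,[5081,3160],[]),(1,[5081,2885],[]),(1,[2515,5084],[]),(1,[5087],[]),(1,[5089,2937],[]),(1,[5089,2806],[]),(1,[2494,5092],[]),(1,[5095],[]),(1,[5097,2808],[]),(2,[1298],[]),(2,[1870],[]),(2,[1874],[]),(14,[2382,32,34,36,38,2939,5091,2495,5098,2810,3527],[2381,2539,2537,2535,2533,2531,2529,2527,2525,2523,2521]),(1,[5106],[]),(1,[5109,3526],[]),(1,[2518,5110],[]),(1,[5113],[]),(1,[5115,2812],[]),(1,[5115,2811],[]),(1,[2491,5118],[]),(1,[5121],[]),(1,[5123,5099],[]),(2,[2822],[3205]),(1,[5127],[]),(1,[5129,3203],[]),(1,[2825,5130],[]),(1,[5133],[]),(1,[5135,3269],[]),(1,[2827,5136],[]),(1,[5139],[]),(1,[5141,3267],[]),(1,[3075,5142],[]),(1,[5145],[]),(1,[5147,3227],[]),(2,[5074],[]),(2,[5082],[]),(2,[2722,3206],[]),(1,[5154],[])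,(1,[5157,3207],[]),(1,[5157,3250],[]),(1,[2720,5160],[]),(1,[5163],[]),(1,[5165,3252],[]),(1,[3604,5166],[]),(1,[5168],[]),(1,[5171,3604],[]),(8,[2721,5173,3272,3274,3276,3278,3280,3282,3284,3286,3288,3290],[5158,3151,3149,2497,2515,5153,3162]),(2,[2892],[]),(2,[2900],[]),(7,[2899,2897,2895,5176,2891,5150,2511,2509,2507,5125,2491,5116,2458,2460,2454,2308,2310,2312,2502,2504,5066],[5179,2902]),(23,[3045,3043,3012,3835,3107,4240,4242,4244,4246,4248,4250,4252],[3517,3745,4143,4141,4139,4137,71,69,67,65,4066,4215,4213,4211]),(1,[5182],[]),(1,[5185,4254],[]),(1,[5185,4253],[]),(1,[4238,5188],[]),(1,[5191],[]),(1,[5193,4251],[]),(22,[3107,4240,4242,4244,4246,4248,5195,4238,5186],[3834,3014,3648,46,3781,3805,3425,3423,3442,3810,3471,4295,4293,4291,4289,4287,4285]),(1,[5197],[]),(1,[5199,4296],[]),(1,[4257,5200],[]),(1,[5203],[]),(1,[5205,4298],[]),(1,[4259,5206],[]),(1,[5209],[]),(1,[5211,4300],[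]),(1,[4261,5212],[]),(1,[5215],[]),(1,[5217,4302],[]),(1,[4263,5218],[]),(1,[5221],[]),(1,[5223,4304],[]),(1,[4227,5224],[]),(1,[5227],[]),(1,[5229,4306],[]),(1,[4195,5230],[]),(1,[5232],[]),(1,[5235,4196],[]),(1,[4098,5236],[]),(1,[5239],[]),(1,[5241,4180],[]),(1,[5241,4179],[]),(1,[4071,5244],[]),(1,[5247],[]),(1,[5249,4177],[]),(2,[3220],[]),(2,[4274],[4276]),(1,[5254],[]),(1,[5257,4275],[]),(1,[5257,4174],[]),(1,[4074,5260],[]),(1,[5263],[]),(1,[5265,5251],[]),(0,[],[]),(0,[],[]),(0,[],[]),(0,[],[]),(0,[],[]),(0,[],[]),(0,[],[]),(0,[],[]),(0,[],[]),(0,[],[]),(0,[],[]),(0,[],[]),(0,[],[]),(0,[],[]),(0,[],[]),(0,[],[]),(0,[],[]),(0,[],[]),(7,[442,1789,1787,5268,5270,5284,5286,5288,5290,5292,5294,5296,5298,5300,5302],[73,0,441,4,487,755,4851,904]),(0,[],[]),(0,[],[]),(0,[],[]),(0,[],[]),(0,[],[]),(21,[103,159,4438,155,263,4600,5308,5310,5312,5314],[73,0,441,4,1077,1093,1090,4667,352,354,4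669,358,4671]),(0,[],[]),(0,[],[]),(0,[],[]),(22,[103,159,4438,155,4501,151,4494,147,5318,5320,5322],[73,0,441,4,1077,8,10,1116,1379,4667,352,354,4669,358]),(0,[],[]),(0,[],[]),(0,[],[]),(0,[],[]),(0,[],[]),(0,[],[]),(0,[],[]),(0,[],[]),(0,[],[]),(25,[103,4436,99,4434,1377,1375,5326,5328,5330,5332,5334,5336,5338,5340,5342],[73,0,441,4,487,485,483,481,479,4730]),(0,[],[]),(0,[],[]),(0,[],[]),(0,[],[]),(0,[],[]),(0,[],[]),(0,[],[]),(0,[],[]),(0,[],[]),(0,[],[]),(6,[78,210,506,580,582,5354,5356,5358,5360,5362,5364],[4309,532,4881,740]),(0,[],[]),(0,[],[]),(0,[],[]),(0,[],[]),(0,[],[]),(0,[],[]),(0,[],[]),(0,[],[]),(0,[],[]),(8,[77,0,2,86,88,378,770,885,5368,5370,5372,5374,5376,5378,5380,5382,5384],[4309,532]),(0,[],[]),(0,[],[]),(0,[],[]),(0,[],[]),(0,[],[]),(11,[77,0,2,86,750,870,872,874,1070,5388,5390,5392,5394,5396],[4309,532,4881,740,5367]),(0,[],[]),(0,[],[]),(0,[],[]),(0,[],[]),(14,[78,8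0,182,244,5400,5402,5404,5406],[4309,532,4881,740,5367,5365,5363,5361,5359,5357,5355,583,610]),(0,[],[]),(0,[],[]),(0,[],[]),(0,[],[]),(0,[],[]),(0,[],[]),(0,[],[]),(0,[],[]),(0,[],[]),(0,[],[]),(0,[],[]),(0,[],[]),(0,[],[]),(0,[],[]),(24,[77,72,103,4436,99,5410,5412,5414,5416,5418,5420,5422,5424,5426,5428,5430,5432,5434,5436],[4309,532,4881,740,5367,5399]),(0,[],[]),(0,[],[]),(0,[],[]),(0,[],[]),(29,[78,80,182,244,5400,5440,5442,5444,5446],[4309,532,4881,740,5367,5365,5363,5361,5359,5357,5355,583,610,5409,5407,5405]),(0,[],[]),(0,[],[]),(0,[],[]),(0,[],[]),(0,[],[]),(6,[80,182,184,264,266,464,5450,5452,5454,5456,5458],[4311,212,4573,430]),(0,[],[]),(0,[],[]),(0,[],[]),(0,[],[]),(0,[],[]),(11,[79,77,72,442,1789,5276,5278,5280,5348,5462,5464,5466,5468,5470],[4311,212,4573,430,5461]),(0,[],[]),(0,[],[]),(0,[],[]),(0,[],[]),(0,[],[]),(0,[],[]),(15,[79,77,72,442,1789,5276,5278,5280,5348,5462,5464,5466,5468,5482,5484],[4311,212,4573,430,5461,5459]),(0,[],[]),(18,[80,82,84,2,4,487,755,753,870,872,1236,1238,5474,5476,5478,5480,5488],[4311,212,562,4889,644]),(0,[],[]),(0,[],[]),(0,[],[]),(0,[],[])]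

theorem ok10 : data.stepsOK st10 2500 = true := by decide +kernel

def st11 : List Step := [(0,[],[]),(0,[],[]),(0,[],[]),(0,[],[]),(0,[],[]),(7,[80,82,84,2,86,88,378,380,5492,5494,5496,5498,5500,5502,5504,5506,5508],[4311,212,4573,430,432,434]),(0,[],[]),(19,[79,77,0,2,86,88,90,5512],[4311,212,4573,430,432,434,5511,5509,5507,5505,5503,5501,5499,5497,5495]),(0,[],[]),(0,[],[]),(0,[],[]),(0,[],[]),(21,[79,77,72,442,1789,5276,5516,5518,5520,5522],[4311,212,4573,430,5461,5473,5471,5469,5467,5465,5463,5349,5281]),(0,[],[]),(0,[],[]),(22,[79,77,72,442,444,446,448,661,5526,5528],[4311,212,4573,430,5461,5459,5487,5485,5483,5469,5467,5465,5463,5349,5282]),(0,[],[]),(0,[],[]),(0,[],[]),(0,[],[]),(0,[],[]),(0,[],[]),(0,[],[]),(0,[],[]),(0,[],[]),(0,[],[]),(0,[],[]),(0,[],[]),(0,[],[]),(24,[79,104,532,534,536,749,5532,5534,5536,5538,5540,5542,5544,5546,5548,5550,5552,5554,5556],[4311,212,4573,430,54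61,5473]),(0,[],[]),(0,[],[]),(0,[],[]),(26,[80,82,84,2,4,487,4785,483,4766,479,4728,475,473,4704,5562,5564],[4311,212,4573,430,5461,5459,5457,5455,5453]),(0,[],[]),(0,[],[]),(0,[],[]),(0,[],[]),(4,[81,210,506,580,610,5568,5570,5572,5574],[4317,244]),(0,[],[]),(0,[],[]),(0,[],[]),(0,[],[]),(0,[],[]),(0,[],[]),(6,[82,128,130,132,134,136,5578,5580,5582,5584,5586,5588],[4317,244,5577]),(0,[],[]),(0,[],[]),(0,[],[]),(0,[],[]),(0,[],[]),(0,[],[]),(0,[],[]),(0,[],[]),(0,[],[]),(0,[],[]),(11,[81,79,104,106,5592,5594,5596,5598,5600,5602,5604,5606,5608,5610],[4317,244,5577,5591,5589]),(0,[],[]),(0,[],[]),(0,[],[]),(0,[],[]),(0,[],[]),(0,[],[]),(5,[82,84,1,72,442,1789,5276,5516,5518,5520,5614,5616,5618,5620,5622,5624],[4317,244,246,4597]),(0,[],[]),(0,[],[]),(15,[81,79,104,106,5592,5594,5596,5598,5600,5602,5604,5606,5608,5628,5630],[4317,244,5577,5591,5589,5587]),(0,[],[]),(18,[82,84,1,72,103,159,178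4,1786,5276,5278,5525,5523,5614,5616,5618,5620,5634],[4317,244,246,4597,328]),(0,[],[]),(20,[81,79,104,532,5387,5638],[4317,244,5577,5591,5589,5587,5633,5631,5629,5609,5607,5605,5603,5601,5599,5597,5595]),(0,[],[]),(0,[],[]),(0,[],[]),(0,[],[]),(21,[81,79,104,106,5592,5594,5642,5644,5646,5648],[4317,244,5577,5591,5589,5613,5611,5609,5607,5605,5603,5601,5599]),(0,[],[]),(0,[],[]),(0,[],[]),(0,[],[]),(0,[],[]),(0,[],[]),(0,[],[]),(0,[],[]),(0,[],[]),(0,[],[]),(0,[],[]),(0,[],[]),(0,[],[]),(24,[81,210,212,214,216,439,5652,5654,5656,5658,5660,5662,5664,5666,5668,5670,5672,5674,5676],[4317,244,5577,5591,5589,5613]),(0,[],[]),(0,[],[]),(0,[],[]),(0,[],[]),(0,[],[]),(0,[],[]),(0,[],[]),(5,[84,1,76,104,106,5592,5594,5642,5644,5646,5682,5684,5686,5688,5690,5692],[4345,300,302,4378]),(0,[],[]),(18,[84,1,76,104,532,5387,5638,5640,5594,5596,5651,5649,5682,5684,5686,5688,5696],[4345,300,302,4378,1061]),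(0,[],[]),(0,[],[]),(0,[],[]),(0,[],[]),(0,[],[]),(0,[],[]),(0,[],[]),(0,[],[]),(0,[],[]),(7,[84,1,76,104,106,108,110,5560,5700,5702,5704,5706,5708,5710,5712,5714,5716],[4345,300,561,4374,891,889]),(0,[],[]),(19,[83,81,79,104,106,108,225,5720],[4345,300,561,4374,891,889,5719,5717,5715,5713,5711,5709,5707,5705,5703]),(0,[],[]),(0,[],[]),(0,[],[]),(0,[],[]),(0,[],[]),(0,[],[]),(0,[],[]),(0,[],[]),(0,[],[]),(0,[],[]),(29,[84,1,72,103,4436,127,293,291],[4345,300,561,4374,783,781,779,777,775,773,771,379,90,4433,94,4435,5410]),(0,[],[]),(0,[],[]),(0,[],[]),(0,[],[]),(0,[],[]),(0,[],[]),(6,[750,870,1194,1254,1256,5746,5748,5750,5752,5754,5756],[4431,90,4433,1368]),(0,[],[]),(0,[],[]),(0,[],[]),(0,[],[]),(0,[],[]),(0,[],[]),(0,[],[]),(8,[87,4,6,1093,4593,4594,1388,1491,1868,5760,5762,5764,5766,5768,5770,5772],[4431,90,5512]),(0,[],[]),(0,[],[]),(0,[],[]),(0,[],[]),(0,[],[]),(11,[87,4,6,1093,1090,35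0,352,1480,1604,5776,5778,5780,5782,5784],[4431,90,4433,1368,5759]),(0,[],[]),(0,[],[]),(0,[],[]),(0,[],[]),(0,[],[]),(0,[],[]),(5,[750,752,754,4785,483,579,4895,4896,960,962,5788,5790,5792,5794,5796,5798],[4431,90,5512,5775]),(0,[],[]),(0,[],[]),(18,[750,752,754,4785,531,529,527,576,4895,681,4904,965,5788,5790,5792,5794,5804],[4431,90,5512,5775,5773]),(0,[],[]),(0,[],[]),(0,[],[]),(0,[],[]),(0,[],[]),(0,[],[]),(0,[],[]),(0,[],[]),(0,[],[]),(0,[],[]),(24,[87,440,85,128,130,160,162,164,317,5808,5810,5812,5814,5816,5818,5820,5822,5824,5826],[4431,90,4433,1368,5759,5787]),(0,[],[]),(0,[],[]),(0,[],[]),(0,[],[]),(0,[],[]),(0,[],[]),(0,[],[]),(0,[],[]),(25,[87,440,1,72,442,1789,5276,5278,5280,5348,5350,5352,5830,5832,5834,5836,5838,5840,5842,5844],[4431,90,4433,1368,1370]),(0,[],[]),(0,[],[]),(27,[87,440,1,72,442,1789,5276,5278,5280,5348,5350,5352,5830,5832,5834,5848,5850],[4431,90,4433,1368,137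0,5847,5845,5843]),(0,[],[]),(0,[],[]),(0,[],[]),(0,[],[]),(0,[],[]),(0,[],[]),(0,[],[]),(0,[],[]),(0,[],[]),(0,[],[]),(0,[],[]),(11,[90,5512,5860,5862,5866,5868,5870,5872,5874],[89,87,3,85,4345,130,160,4505,164,317]),(0,[],[]),(0,[],[]),(0,[],[]),(0,[],[]),(14,[378,380,382,384,386,424,5882,5884],[89,87,3,85,4345,300,561,4374,783,781,779,777,995]),(16,[90,5512,5860,5862,5864],[89,87,3,1,75,103,101,99,97,95,1368,5759,5787,5829,5827,5825,5823]),(1,[5888],[]),(1,[5891,5865],[]),(1,[5820,5892],[]),(1,[5895],[]),(1,[5897,5866],[]),(1,[5818,5898],[]),(1,[5897,5863],[]),(1,[5901],[]),(1,[5905,5868],[]),(0,[],[]),(0,[],[]),(0,[],[]),(0,[],[]),(0,[],[]),(21,[90,5512,5860,5903,5819,5906,5910,5912,5914,5916],[89,87,3,85,4345,130,160,4505,164,317,5877,5875,5873]),(0,[],[]),(0,[],[]),(0,[],[]),(0,[],[]),(0,[],[]),(0,[],[]),(0,[],[]),(0,[],[]),(0,[],[]),(0,[],[]),(0,[],[]),(8,[5512,5514,5494,5496,5498,5500,5930,5932,5934,5936,5938,5940],[4433,1368,1370,5847,5845,5843,5841]),(0,[],[]),(0,[],[]),(0,[],[]),(0,[],[]),(0,[],[]),(0,[],[]),(0,[],[]),(0,[],[]),(11,[5512,5514,5494,5496,5878,5880,5944,5946,5948,5950,5952,5954,5956,5958],[4433,1368,5759,5757,5755]),(0,[],[]),(0,[],[]),(0,[],[]),(0,[],[]),(0,[],[]),(0,[],[]),(0,[],[]),(0,[],[]),(0,[],[]),(0,[],[]),(0,[],[]),(0,[],[]),(0,[],[]),(0,[],[]),(0,[],[]),(0,[],[]),(0,[],[]),(0,[],[]),(0,[],[])]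

theorem ok11 : data.stepsOK st11 2750 = true := by decide +kernel

end

end Xb1
end HN
end H39
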