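import Cfsg.Agent.H39.HN.Xb1.Data

/-!
Steps of a derivation (generated data).
-/

set_option autoImplicit false
set_option maxRecDepth 100000
set_option linter.all false
set_option Elab.async false

namespace H39
namespace HN
namespace Xb1

open H93.CosetI

noncomputable section

def st12 : List Step := [(0,[],[]),(0,[],[]),(23,[5512,5514,5493,382,384,5972,5990,5992,5994,5996,5998,6000,6002],[4433,1368,5759,5757,5755,5753,5751,5749,5747,1257,1258,1260]),(0,[],[]),(0,[],[]),(0,[],[]),(0,[],[]),(0,[],[]),(0,[],[]),(0,[],[]),(0,[],[]),(0,[],[]),(0,[],[]),(0,[],[]),(0,[],[]),(0,[],[]),(0,[],[]),(0,[],[]),(0,[],[]),(24,[5512,5860,5908,6006,6008,6010,6012,6014,6016,6018,6020,6022,6024,6026,6028,6030,6032,6034,6036],[4433,1368,5759,5757,5755,5961]),(0,[],[]),(0,[],[]),(0,[],[]),(0,[],[]),(29,[91,378,770,885,5036,6040,6042,6044,6046],[4433,1368,5759,5757,5755,5753,5751,5749,5747,1257,1255,1195,872,5033,8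76,5035]),(0,[],[]),(0,[],[]),(0,[],[]),(4,[1368,5920,5922,6050,6052,6054],[93,5512,5775,5773,5771]),(0,[],[]),(0,[],[]),(0,[],[]),(0,[],[]),(0,[],[]),(0,[],[]),(0,[],[]),(0,[],[]),(0,[],[]),(0,[],[]),(0,[],[]),(0,[],[]),(0,[],[]),(0,[],[]),(8,[1368,1370,6058,6060,6062,6064,6066,6068,6070,6072,6074,6076,6078,6080,6082,6084],[93,5512,5514]),(0,[],[]),(0,[],[]),(0,[],[]),(0,[],[]),(0,[],[]),(0,[],[]),(0,[],[]),(0,[],[]),(16,[1368,1370,6058,6060,6062,6092,6094,6096,6098,6100,6102],[93,5512,5775,5773,5771,6057,6055,6053,6051,5923]),(0,[],[]),(0,[],[]),(0,[],[]),(0,[],[]),(0,[],[]),(0,[],[]),(0,[],[]),(0,[],[]),(6,[1377,6088,6108,6110,6112,6114,6116,6118,6120],[4435,98,4437,159,157,209]),(0,[],[]),(0,[],[]),(0,[],[]),(0,[],[]),(0,[],[]),(0,[],[]),(0,[],[]),(8,[95,1368,5920,5922,6050,6106,6124,6126,6128,6130,6132,6134,6136],[4435,98,127,125,181,377]),(0,[],[]),(0,[],[]),(11,[95,1368,5920,5922,5924,5926,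5928,6140,6142],[4435,98,4437,159,157,155,263,1772,363,5317]),(0,[],[]),(0,[],[]),(0,[],[]),(0,[],[]),(0,[],[]),(0,[],[]),(0,[],[]),(0,[],[]),(0,[],[]),(0,[],[]),(7,[1377,1375,1373,6058,6060,6062,6064,6146,6148,6150,6152,6154,6156,6158,6160,6162,6164],[4435,98,4437,159,1784,1786]),(0,[],[]),(19,[95,1368,1370,6058,6060,6062,6092,6168],[4435,98,4437,159,1784,1786,6167,6165,6163,6161,6159,6157,6155,6153,6151]),(0,[],[]),(0,[],[]),(24,[95,4432,5512,5860,5903,5819,5906,5870,5919,6172,6174],[4435,98,4437,159,157,155,153,4502,4655,374,4511,179,177,175]),(0,[],[]),(0,[],[]),(0,[],[]),(0,[],[]),(0,[],[]),(0,[],[]),(0,[],[]),(0,[],[]),(25,[95,4432,91,4430,750,752,842,904,5802,5854,5856,5858,6178,6180,6182,6184,6186,6188,6190,6192],[4435,98,4437,159,1784]),(0,[],[]),(0,[],[]),(0,[],[]),(0,[],[]),(0,[],[]),(0,[],[]),(0,[],[]),(11,[98,127,4450,181,179,4508,175,6200,6202,6204,6206,6208],[97,95,93,5512,5775,5773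,5807]),(0,[],[]),(0,[],[]),(0,[],[]),(0,[],[]),(0,[],[]),(0,[],[]),(0,[],[]),(0,[],[]),(0,[],[]),(0,[],[]),(0,[],[]),(22,[98,127,4450,181,4510,6139,6196,6198,6228,6230,6232],[97,95,93,5512,5775,5801,5799,5797,5804,6211,6209,6207,6205,6203]),(0,[],[]),(0,[],[]),(0,[],[]),(0,[],[]),(24,[98,100,159,4438,155,263,4600,363,5317,6236,6238,6240,6242],[97,95,93,5512,5775,5773,5771,6057,6055,6053,6051,5924]),(0,[],[]),(0,[],[]),(0,[],[]),(0,[],[]),(0,[],[]),(0,[],[]),(8,[127,293,4626,409,4682,405,6246,6248,6250,6252,6254,6256],[4437,159,1784,6195,6193,6191,6189]),(0,[],[]),(0,[],[]),(0,[],[]),(0,[],[]),(0,[],[]),(0,[],[]),(0,[],[]),(0,[],[]),(11,[127,293,4626,409,6212,6214,6260,6262,6264,6266,6268,6270,6272,6274],[4437,159,157,209,6123]),(0,[],[]),(0,[],[]),(0,[],[]),(0,[],[]),(0,[],[]),(15,[127,293,4626,409,6212,6214,6260,6262,6264,6266,6268,6270,6272,6284,6286],[4437,159,157,209,6123,6121]),(0,[],[]),(0,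[],[]),(0,[],[]),(16,[127,293,4626,409,4682,423,6290,6292,6294],[4437,159,157,155,153,4502,4655,374,4511,180,123,121]),(0,[],[]),(0,[],[]),(0,[],[]),(0,[],[]),(0,[],[]),(0,[],[]),(0,[],[]),(0,[],[]),(0,[],[]),(0,[],[]),(0,[],[]),(0,[],[]),(0,[],[]),(0,[],[]),(0,[],[]),(0,[],[]),(7,[99,5410,5745,4624,6278,6310,6312,6314,6316,6318,6320,6322,6324,6326,6328],[4437,159,157,209,207,205,203,201]),(0,[],[]),(20,[127,293,4626,6216,6218,6220,6222,6224,6226],[4437,159,157,209,6123,6121,6289,6287,6285,6273,6271,6269,6267,6265,6263]),(1,[6335],[]),(1,[6337,6261],[]),(1,[6226,6338],[]),(1,[6340],[]),(1,[6343,6226],[]),(0,[],[]),(0,[],[]),(0,[],[]),(22,[127,293,4626,409,4682,405,6246,6248,6346,6348,6350],[4437,159,157,209,6123,6121,6289,6287,6285,6273,6271,6269,6267,6265]),(0,[],[]),(0,[],[]),(0,[],[]),(0,[],[]),(0,[],[]),(0,[],[]),(0,[],[]),(0,[],[]),(0,[],[]),(0,[],[]),(0,[],[]),(0,[],[]),(0,[],[]),(0,[],[]),(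24,[127,4450,123,4448,6297,6354,6356,6358,6360,6362,6364,6366,6368,6370,6372,6374,6376,6378,6380],[4437,159,157,209,6123,6277]),(0,[],[]),(0,[],[]),(0,[],[]),(0,[],[]),(0,[],[]),(0,[],[]),(8,[159,1784,5268,5270,5284,5286,6384,6386,6388,6390,6392,6394],[101,127,293,411,409,407,405]),(0,[],[]),(0,[],[]),(0,[],[]),(0,[],[]),(0,[],[]),(0,[],[]),(11,[159,1784,5268,5270,5272,5274,6398,6400,6402,6404,6406,6408],[101,127,125,123,121,6297,6354]),(0,[],[]),(0,[],[]),(15,[159,1784,5268,5270,5272,5274,6398,6400,6402,6404,6406,6408,6410,6412,6414],[101,127,125,123,121,119]),(16,[159,1784,5268,5270,5284,5306],[101,127,125,181,377,375,373,4503,4500,154,209,6123,6277,6383,6381,6379]),(1,[6419],[]),(1,[6421,6377],[]),(1,[5306,6422],[]),(1,[6425],[]),(1,[6427,6375],[]),(1,[5284,6428],[]),(1,[6431],[]),(1,[6433,6373],[]),(1,[5273,6434],[]),(1,[6437],[]),(1,[6439,6371],[]),(0,[],[]),(0,[],[]),(0,[],[]),(0,[],[]),(0,[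],[]),(0,[],[]),(0,[],[]),(23,[159,1784,1786,5276,5278,5525,6442,6444,6446,6448,6450,6452,6454],[101,127,125,123,121,119,117,115,113,111,225,5720]),(0,[],[]),(0,[],[]),(0,[],[]),(0,[],[]),(0,[],[]),(0,[],[]),(0,[],[]),(0,[],[]),(0,[],[]),(0,[],[]),(24,[159,4438,209,6458,6460,6462,6464,6466,6468,6470,6472,6474,6476],[101,127,125,123,121,6297,6295,6293,6291,422,4683,6212]),(0,[],[]),(0,[],[]),(0,[],[]),(0,[],[]),(0,[],[]),(0,[],[]),(0,[],[]),(0,[],[]),(0,[],[]),(0,[],[])]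

theorem ok12 : data.stepsOK st12 3000 = true := by decide +kernel

def st13 : List Step := [(0,[],[]),(0,[],[]),(0,[],[]),(0,[],[]),(0,[],[]),(25,[159,4438,155,4501,151,6480,6482,6484,6486,6488,6490,6492,6494,6496,6498,6500,6502,6504,6506,6508],[101,127,125,123,231]),(0,[],[]),(0,[],[]),(0,[],[]),(0,[],[]),(29,[102,442,444,545,4884,6512,6514,6516,6518],[101,127,125,123,121,119,117,115,113,111,109,107,532,4881,536,4883]),(0,[],[]),(0,[],[]),(0,[],[]),(0,[],[]),(0,[],[]),(0,[],[]),(0,[],[]),(0,[],[]),(11,[532,5387,5724,5726,6522,6524,6526,6528,6530,6532,6534,6536],[105,77,75,103,101,99,5410]),(16,[532,5387,5724,5726,5728],[105,77,75,442,4441,545,543,541,539,537,740,5367,5399,5439,5437,5435,5433]),(1,[6540],[]),(1,[6543,5729],[]),(1,[5430,6544],[]),(1,[6547],[]),(1,[6549,6522],[]),(1,[5428,6550],[]),(1,[6549,5727],[]),(1,[6553],[]),(1,[6557,6524],[]),(0,[],[]),(0,[],[]),(0,[],[]),(20,[532,5387,5724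,6560,6562,6564],[105,77,75,103,101,127,293,291,5744,6539,6537,6535,6533,6531,6529,6527,6559]),(0,[],[]),(0,[],[]),(0,[],[]),(0,[],[]),(21,[532,5387,5724,6555,5429,6558,6568,6570,6572,6574],[105,77,75,103,101,99,5410,6539,6537,6535,6533,6531,6529]),(0,[],[]),(0,[],[]),(0,[],[]),(0,[],[]),(0,[],[]),(0,[],[]),(0,[],[]),(0,[],[]),(0,[],[]),(0,[],[]),(27,[532,534,536,538,6521,6519,6578,6580,6582,6584,6586,6588,6590,6592,6594,6596],[105,77,75,103,159,157,155,153,4502]),(0,[],[]),(0,[],[]),(0,[],[]),(0,[],[]),(0,[],[]),(0,[],[]),(0,[],[]),(0,[],[]),(0,[],[]),(6,[5592,5594,5642,6600,6602,6604,6606,6608,6610,6612,6614,6616],[4443,225,223]),(0,[],[]),(0,[],[]),(0,[],[]),(0,[],[]),(0,[],[]),(0,[],[]),(0,[],[]),(11,[107,532,534,536,749,5532,5534,6620,6622,6624,6626,6628,6630,6632],[4443,225,223,6619,6617]),(0,[],[]),(0,[],[]),(0,[],[]),(0,[],[]),(0,[],[]),(0,[],[]),(5,[5592,5641,5639,5724,6555,5429,6558,6568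,6570,6572,6636,6638,6640,6642,6644,6646],[4443,225,5720,6457]),(18,[5592,5641,5639,5724,6560,6562,6564,6566,6558,6526,6577,6575,6636,6638,6640,6642],[4443,225,5720,6457,6455,6453]),(0,[],[]),(0,[],[]),(0,[],[]),(0,[],[]),(24,[107,4308,77,72,442,1789,5276,5278,5525,6442,6444,6446,6448,6450,6452,6652,6654,6656,6658],[4443,225,223,6619,6617,6635]),(0,[],[]),(0,[],[]),(0,[],[]),(0,[],[]),(0,[],[]),(0,[],[]),(0,[],[]),(0,[],[]),(0,[],[]),(11,[225,5720,6662,6664,6668,6670,6672,6674,6676,6678],[109,107,105,77,75,442,1789,6167,6165]),(16,[225,5720,6662,6664,6666],[109,107,105,78,4311,212,4573,216,4575,220,6619,6617,6635,6661,6659,6657,6655]),(1,[6682],[]),(1,[6685,6667],[]),(1,[6652,6686],[]),(1,[6689],[]),(1,[6691,6668],[]),(1,[6452,6692],[]),(1,[6691,6665],[]),(1,[6455,6696],[]),(1,[6695],[]),(1,[6701,6670],[]),(1,[6699],[]),(1,[6705,6663],[]),(0,[],[]),(0,[],[]),(0,[],[]),(0,[],[]),(21,[225,5720,6707,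6455,6453,6702,6708,6710,6712,6714],[109,107,105,77,75,442,1789,6167,6165,6681,6679,6677,6675]),(0,[],[]),(0,[],[]),(0,[],[]),(0,[],[]),(0,[],[]),(0,[],[]),(0,[],[]),(0,[],[]),(0,[],[]),(0,[],[]),(24,[225,4576,6619,6718,6720,6722,6724,6726,6728,6730,6732,6734,6736],[109,107,105,77,75,442,4441,545,543,541,539,749]),(0,[],[]),(0,[],[]),(0,[],[]),(8,[111,225,4576,221,4574,439,5652,5654,5656,5658,5660,6740,6742,6744],[4445,345,343,341,339]),(0,[],[]),(0,[],[]),(0,[],[]),(0,[],[]),(0,[],[]),(0,[],[]),(5,[5560,5700,5723,6707,6455,6453,6702,6708,6710,6712,6748,6750,6752,6754,6756,6758],[4445,345,343,341]),(18,[5560,5700,5723,6707,6649,6647,6645,6650,6702,6672,6717,6715,6748,6750,6752,6754],[4445,345,343,341,339,337]),(0,[],[]),(0,[],[]),(0,[],[]),(0,[],[]),(0,[],[]),(0,[],[]),(0,[],[]),(0,[],[]),(8,[345,343,4660,339,6764,6766,6768,6770,6772,6774,6776,6778],[113,111,225,223,221,219,439]),(0,[],[]),(0,[],[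]),(0,[],[]),(0,[],[]),(0,[],[]),(0,[],[]),(0,[],[]),(21,[345,343,4660,339,337,4658,6788,6790,6792,6794],[113,111,109,107,105,78,80,4317,244,246,4597,328,4657]),(0,[],[]),(0,[],[]),(22,[345,343,4660,339,6764,6766,6768,6770,6798,6800],[113,111,109,107,105,77,0,85,83,4317,244,246,4597,328,5637]),(0,[],[]),(0,[],[]),(0,[],[]),(0,[],[]),(23,[345,343,412,6782,6784,6786,6804,6806,6808,6810],[113,111,109,107,105,77,75,103,101,127,293,291,289,6278,6280]),(0,[],[]),(0,[],[]),(0,[],[]),(0,[],[]),(14,[118,6297,6818,6820],[117,115,113,111,109,107,105,77,75,103,101,127,293,411,409,407,423]),(23,[6417,6415,6413,6356,6358,6360,6362,6364,6366,6368,6441,5273,5271],[117,115,113,111,109,107,105,77,75,103,159,1784,6195]),(1,[6825],[]),(1,[6827,6193],[]),(1,[5271,6828],[]),(1,[6831],[]),(1,[6833,6191],[]),(0,[],[]),(0,[],[]),(0,[],[]),(0,[],[]),(0,[],[]),(0,[],[]),(0,[],[]),(0,[],[]),(0,[],[]),(0,[],[]),(6,[6297,6818,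6836,6838,6840,6842,6844,6846,6848,6850,6852,6854],[4449,231,6511]),(0,[],[]),(0,[],[]),(0,[],[]),(0,[],[]),(0,[],[]),(0,[],[]),(0,[],[]),(0,[],[]),(0,[],[]),(0,[],[]),(0,[],[]),(0,[],[]),(0,[],[]),(11,[231,229,6864,6866,6868,6870,6872,6874,6876,6878,6880,6882],[121,119,117,115,113,5560,5700]),(0,[],[]),(0,[],[]),(0,[],[]),(20,[231,229,6864,6886,6888,6890],[121,119,117,115,113,111,225,5720,5722,6885,6883,6881,6879,6877,6875,6873,6871]),(0,[],[]),(0,[],[]),(0,[],[]),(0,[],[]),(21,[231,229,6864,6866,6868,6870,6894,6896,6898,6900],[121,119,117,115,113,5560,5700,6885,6883,6881,6879,6877,6875]),(0,[],[]),(0,[],[]),(0,[],[]),(0,[],[]),(0,[],[]),(0,[],[]),(0,[],[]),(0,[],[]),(6,[181,4510,6139,6196,6906,6908,6910,6912,6914,6916,6918],[4451,293,411,6216]),(0,[],[]),(0,[],[]),(0,[],[]),(0,[],[]),(0,[],[]),(0,[],[]),(0,[],[]),(0,[],[]),(8,[123,231,6858,6860,6862,6904,6922,6924,6926,6928,6930,6932,6934,6936],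[4451,293,291,289,6278]),(0,[],[]),(0,[],[]),(0,[],[]),(0,[],[]),(0,[],[]),(0,[],[]),(0,[],[]),(0,[],[]),(0,[],[]),(0,[],[]),(11,[123,231,6858,6860,6940,6942,6944,6946,6948,6950,6952,6954,6956,6958],[4451,293,411,6216,6921]),(0,[],[]),(0,[],[]),(0,[],[]),(5,[181,179,226,6864,6866,6868,6870,6894,6896,6898,6962,6964,6966],[4451,293,291,289,287,6298,6300]),(0,[],[]),(0,[],[]),(14,[181,179,4508,175,6200,6235,6970,6972],[4451,293,411,6216,6921,6919,6917,6915,6913,6911,6909,6907,6198]),(18,[181,179,226,6864,6886,6888,6890,6892,6870,6872,6903,6901,6962,6964,6966,6968,6302],[4451,293,291,289,6278,6280]),(1,[6976],[]),(1,[6979,6304],[]),(1,[6283,6980],[]),(1,[6979,6303],[]),(1,[6983],[]),(1,[6987,6306],[]),(0,[],[]),(0,[],[]),(24,[123,4448,119,4446,417,415,6782,6784,6786,6804,6806,6808,6810,6812,6281,6310,6332,6990,6992],[4451,293,411,6216,6921,6961]),(0,[],[]),(0,[],[])]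

theorem ok13 : data.stepsOK st13 3250 = true := by decide +kernel

def st14 : List Step := [(0,[],[]),(0,[],[]),(0,[],[]),(11,[293,291,4624,6278,6280,6282,6988,6996,6998,7000,7002,7004],[125,123,121,119,117,417,415]),(0,[],[]),(0,[],[]),(0,[],[]),(0,[],[]),(0,[],[]),(0,[],[]),(0,[],[]),(0,[],[]),(0,[],[]),(11,[300,302,4650,1061,5699,7010,7012,7014,7016,7018,7020,7022,7024],[129,83,4317,244,5577,5575]),(0,[],[]),(0,[],[]),(0,[],[]),(0,[],[]),(0,[],[]),(0,[],[]),(0,[],[]),(0,[],[]),(0,[],[]),(0,[],[]),(0,[],[]),(7,[130,160,307,4652,7028,7030,7032,7034,7036,7038,7040,7042,7044,7046,7048],[129,83,4317,244,246,248,4338,861]),(0,[],[]),(0,[],[]),(0,[],[]),(0,[],[]),(21,[300,302,4650,1061,5699,7010,7052,7054,7056,7058],[129,83,4317,244,5577,5575,7027,7025,7023,7021,7019,7017,7015]),(0,[],[]),(0,[],[]),(0,[],[]),(0,[],[]),(29,[130,160,162,164,166,168,7064,7066,7068],[129,83,4317,244,5577,5591,5589,5587,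5585,5583,5581,5579,138,4491,320,4507]),(0,[],[]),(0,[],[]),(0,[],[]),(0,[],[]),(0,[],[]),(0,[],[]),(0,[],[]),(0,[],[]),(0,[],[]),(0,[],[]),(8,[131,300,4635,559,4886,7062,7072,7074,7076,7078,7080,7082,7084,7086,7088,7090],[4457,232,4487]),(0,[],[]),(0,[],[]),(0,[],[]),(0,[],[]),(0,[],[]),(18,[160,307,305,4650,5695,5693,5691,5696,7010,7012,7061,7059,7094,7096,7098,7100,7102],[4457,232,4487,7093,7091]),(0,[],[]),(0,[],[]),(0,[],[]),(0,[],[]),(0,[],[]),(0,[],[]),(0,[],[]),(0,[],[]),(0,[],[]),(0,[],[]),(24,[131,4344,83,182,184,186,188,628,256,7108,7110,7112,7114,7116,7118,7120,7122,7124],[4457,232,4583,4588,5103,1872,5105]),(0,[],[]),(0,[],[]),(0,[],[]),(0,[],[]),(0,[],[]),(0,[],[]),(0,[],[]),(0,[],[]),(11,[232,4487,7128,7130,7134,7136,7138,7140,7142],[133,131,129,83,4317,184,186,4531,628,256]),(16,[232,4487,7128,7130,7132],[133,131,129,84,441,4,1077,1093,239,237,4588,5103,1872,5105,7127,7125,7123]),(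1,[7146],[]),(1,[7149,7133],[]),(1,[7120,7150],[]),(1,[7153],[]),(1,[7155,7134],[]),(1,[7118,7156],[]),(1,[7155,7131],[]),(1,[7159],[]),(1,[7163,7136],[]),(0,[],[]),(0,[],[]),(0,[],[]),(20,[232,4487,7128,7166,7168,7170],[133,131,129,83,4317,244,246,248,633,4531,628,256,7145,7143,7141,7139,7165]),(0,[],[]),(0,[],[]),(0,[],[]),(0,[],[]),(21,[232,4487,7128,7161,7119,7164,7174,7176,7178,7180],[133,131,129,83,4317,184,186,4531,628,256,7145,7143,7141]),(0,[],[]),(0,[],[]),(8,[135,232,234,236,238,1090,350,352,354,356,358,5325,7184,7186],[4489,138,140,4493,144]),(0,[],[]),(0,[],[]),(0,[],[]),(0,[],[]),(0,[],[]),(0,[],[]),(5,[696,4482,1793,7128,7161,7119,7164,7174,7176,7178,7190,7192,7194,7196,7198,7200],[4489,138,140,4493]),(18,[696,4482,1793,7128,7166,7168,7170,7172,7164,7138,7183,7181,7190,7192,7194,7196],[4489,138,140,4493,144,146]),(2,[5318],[7189]),(1,[7207],[]),(1,[7209,7187],[]),(1,[5321,7210],[]),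(1,[7213],[]),(1,[7215,7185],[]),(2,[6200],[6177]),(1,[7218],[]),(1,[7221,6201],[]),(1,[7221,6235],[]),(4,[175,7223,7224,6970,6972,6974,6199],[4509,178,377,6139,6137]),(1,[7226],[]),(1,[7229,6197],[]),(1,[7229,6906],[]),(8,[628,256,7108,7110,7112,7114,7116,7118,7160],[189,187,185,183,82,4345,130,4457,232,4487,7093]),(1,[7234],[]),(1,[7237,7129],[]),(1,[7237,7161],[]),(1,[7090,7240],[]),(1,[7243],[]),(1,[7245,7119],[]),(1,[7104,7246],[]),(1,[7249],[]),(1,[7251,7164],[]),(1,[7251,7117],[]),(2,[],[6331]),(8,[201,199,4554,259,7108,7110,7112],[4557,260,262,153,151,149,7205,7197,7195,7193,7191,7180,7182]),(1,[7259],[]),(1,[7261,7140],[]),(1,[7261,7139],[]),(1,[7115,7264],[]),(1,[7261,7183],[]),(1,[7267],[]),(1,[7271,7253],[]),(2,[6458],[6123]),(1,[7274],[]),(1,[7277,6459],[]),(1,[7277,6460],[]),(1,[6276,7280],[]),(1,[7283],[]),(1,[7285,6462],[]),(1,[6274,7286],[]),(1,[7289],[]),(1,[7291,6464],[]),(23,[2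07,205,260,4600,363,5317,6236,6238,6240,6242,6244,5925,5923],[6123,6121,6119,6117,6115,6113,6111,6109,6089,1376,95,1368,5759]),(1,[7294],[]),(1,[7297,6105],[]),(1,[5756,7298],[]),(1,[7301],[]),(1,[7303,6103],[]),(1,[5754,7304],[]),(1,[7307],[]),(1,[7309,6101],[]),(1,[5960,7310],[]),(1,[7313],[]),(1,[7315,6099],[]),(1,[6038,7316],[]),(1,[7319],[]),(1,[7321,6097],[]),(1,[6036,7322],[]),(1,[7325],[]),(1,[7327,6095],[]),(1,[6034,7328],[]),(1,[7331],[]),(1,[7333,6093],[]),(1,[6032,7334],[]),(1,[7333,6168],[]),(1,[7337],[]),(1,[7341,6063],[]),(1,[6030,7342],[]),(1,[7345],[]),(1,[7347,6061],[]),(16,[212,562,642,644,646],[211,79,4309,106,4443,225,223,221,219,217,430,5461,5473,5559,5557,5555,5553]),(1,[7351],[]),(1,[7353,5551],[]),(1,[646,7354],[]),(1,[7353,5552],[]),(1,[7357],[]),(1,[7361,5549],[]),(1,[5490,7362],[]),(1,[7365],[]),(1,[7367,5547],[]),(14,[230,122,124,293,4626,409,4682,423,6290,6292],[6511,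6857,6855,6853,6851,6849,6847,6845,6843,6841,6839,6837]),(1,[7371],[]),(1,[7373,6819],[]),(1,[7373,6820],[]),(1,[6292,7376],[]),(1,[7379],[]),(1,[7381,6822],[]),(24,[237,4582,4487,7239,7091,7105,7273,7115,7268],[4592,1092,7,487,485,483,481,4749,4746,692,1856,503,501,499,4879,2128]),(11,[1092,8,1611,505,503,4873,499,4864,2128],[239,237,235,4487,7093,7091,7105,7254,7115,7268]),(2,[5400],[5577]),(1,[7389],[]),(1,[7391,5576],[]),(1,[7391,5591],[]),(1,[5441,7394],[]),(1,[7397],[]),(1,[7399,5589],[]),(4,[246,326,328,330,6797],[7393,5440,7400,5613,5679,5677,5675]),(1,[7402],[]),(1,[7405,6796],[]),(1,[5672,7406],[]),(1,[7408],[]),(1,[7411,5671],[]),(1,[330,7412],[]),(1,[7415],[]),(1,[7417,5669],[]),(1,[5636,7418],[]),(1,[7421],[]),(1,[7423,5667],[]),(1,[6802,7424],[]),(1,[7426],[]),(1,[7429,6802],[]),(1,[7429,6801],[]),(1,[5664,7432],[]),(1,[7435],[]),(1,[7437,6799],[]),(1,[5662,7438],[]),(1,[7441],[]),(1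,[7443,6771],[]),(1,[6741,7444],[]),(1,[7443,6772],[]),(1,[5660,7448],[]),(1,[7447],[]),(1,[7453,6769],[]),(1,[7451],[]),(1,[7457,6774],[]),(2,[7108],[7145]),(1,[7461],[]),(1,[7463,7144],[]),(1,[7463,7143],[]),(1,[7111,7466],[]),(1,[7469],[]),(1,[7471,7263],[]),(2,[5734],[]),(2,[6764],[6747]),(1,[7476],[]),(1,[7479,6765],[]),(1,[7479,6766],[]),(1,[6744,7482],[]),(1,[7485],[]),(1,[7487,7455],[]),(3,[5962,5964],[384,5972,5974,5976]),(1,[7491],[]),(1,[7493,5977],[]),(2,[6246],[6397]),(1,[7497],[])]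

theorem ok14 : data.stepsOK st14 3500 = true := by decide +kernel

def st15 : List Step := [(1,[7499,6396],[]),(1,[7499,6395],[]),(1,[6249,7502],[]),(1,[7505],[]),(1,[7507,6393],[]),(1,[6251,7508],[]),(1,[7511],[]),(1,[7513,6391],[]),(2,[6782],[7007]),(1,[7517],[]),(1,[7519,7006],[]),(2,[],[5461]),(2,[5652],[6781]),(1,[7525],[]),(1,[7527,6780],[]),(1,[7527,6779],[]),(1,[5655,7530],[]),(1,[7533],[]),(1,[7535,6777],[]),(1,[5657,7536],[]),(1,[7539],[]),(1,[7541,7459],[]),(4,[661,5526,5528,5530,5283],[449,447,445,1789,6167,6165,6163]),(1,[7545],[]),(1,[7547,6162],[]),(1,[7547,6161],[]),(1,[5349,7550],[]),(1,[7553],[]),(1,[7555,6159],[]),(1,[5351,7556],[]),(1,[7559],[]),(1,[7561,6157],[]),(1,[5353,7562],[]),(1,[7565],[]),(1,[7567,6155],[]),(2,[5532],[6739]),(1,[7571],[]),(1,[7573,6738],[]),(2,[5802],[5305]),(1,[7576],[]),(1,[7579,5803],[]),(2,[],[6005]),(2,[6058],[5847]),(1,[7584],[]),(1,[7587,6059],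[]),(1,[7587,7349],[]),(1,[5844,7590],[]),(1,[7593],[]),(1,[7595,6030],[]),(2,[5276],[6167]),(1,[7599],[]),(1,[7601,6166],[]),(1,[7601,6165],[]),(1,[5279,7604],[]),(1,[7607],[]),(1,[7609,7549],[]),(2,[5284],[6834]),(1,[7613],[]),(1,[7615,6189],[]),(1,[5287,7616],[]),(1,[7619],[]),(1,[7621,6259],[]),(2,[6384],[7622]),(1,[7624],[]),(1,[7627,6386],[]),(1,[6256,7628],[]),(1,[7631],[]),(1,[7633,6388],[]),(1,[6254,7634],[]),(1,[7637],[]),(1,[7639,7515],[]),(2,[5462],[]),(2,[5830],[7568]),(1,[7645],[]),(1,[7647,6153],[]),(1,[5833,7648],[]),(1,[7651],[]),(1,[7653,6151],[]),(2,[5452],[]),(23,[5487,5485,5483],[5457,5455,5453,5451,465,267,265,185,183,81,79,77,75,442,1789,7603,5278,7610,5348,7643,5464,5466]),(2,[],[5559]),(2,[],[7368]),(2,[5494],[6087]),(1,[7665],[]),(1,[7667,6085],[]),(1,[5497,7668],[]),(1,[7671],[]),(1,[7673,6083],[]),(2,[5498],[7674]),(1,[7677],[]),(1,[7679,6081],[]),(1,[5501,7680],[]),(1,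[7683],[]),(1,[7685,6079],[]),(2,[5930],[7686]),(1,[7689],[]),(1,[7691,6077],[]),(1,[5933,7692],[]),(1,[7695],[]),(1,[7697,6075],[]),(1,[5935,7698],[]),(1,[7701],[]),(1,[7703,6073],[]),(2,[5614],[]),(2,[5538],[]),(2,[5542],[]),(24,[5545,7710,5541,7708,5537,5535,7574,748,537,4880,533,4308,78,210,212,214,430,7522,5473,7660,5557],[7663,5490,4971,7358]),(2,[5620],[]),(8,[5619,5617,7706,5522,6442,6444,6446],[7715,5634,5636,4657,332,4659,6763,6755,6753,6751,6749,6714,6716]),(1,[7717],[]),(1,[7719,6673],[]),(1,[6449,7720],[]),(1,[7719,6717],[]),(1,[7723],[]),(1,[7727,6703],[]),(2,[],[7431]),(2,[5662],[]),(2,[5738],[]),(2,[5834],[7654]),(1,[7737],[]),(1,[7739,6171],[]),(1,[5849,7740],[]),(1,[7739,6149],[]),(1,[5837,7744],[]),(1,[7743],[]),(1,[7749,7339],[]),(1,[5851,7750],[]),(1,[7747],[]),(1,[7755,6147],[]),(1,[5839,7756],[]),(1,[7753],[]),(1,[7761,6033],[]),(1,[5853,7762],[]),(1,[7759],[]),(1,[7767,6066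],[]),(1,[7765],[]),(1,[7771,7597],[]),(2,[7768],[5943]),(1,[7774],[]),(1,[7777,7769],[]),(1,[7777,6068],[]),(1,[5940,7780],[]),(1,[7783],[]),(1,[7785,6070],[]),(1,[5938,7786],[]),(1,[7789],[]),(1,[7791,7705],[]),(2,[5990],[]),(2,[5994],[]),(2,[6214],[6479]),(1,[7799],[]),(1,[7801,6478],[]),(1,[7801,6477],[]),(1,[6345,7804],[]),(1,[7807],[]),(1,[7809,6475],[]),(4,[6213,4682,405,6246,6248,6346,6348,6350,6352],[7803,6344,7810]),(1,[7813],[]),(1,[7815,6473],[]),(1,[6265,7816],[]),(1,[7819],[]),(1,[7821,6471],[]),(2,[7008],[6921]),(1,[7824],[]),(1,[7827,7009],[]),(2,[6266],[7822]),(1,[7831],[]),(1,[7833,6469],[]),(1,[6269,7834],[]),(1,[7837],[]),(1,[7839,6467],[]),(1,[6271,7840],[]),(1,[7843],[]),(1,[7845,7293],[]),(2,[6310],[6939]),(1,[7849],[]),(1,[7851,6938],[]),(2,[6282],[6813]),(1,[7855],[]),(1,[7857,6812],[]),(2,[6322],[]),(2,[6990],[]),(2,[6748],[]),(2,[6754],[]),(2,[6814],[]),(14,[6918,6961],[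6917,6915,6913,6911,6909,7233,7230,6138,4511,180,4451,293,291,289,6278,7853,6332,7863,6992]),(2,[7190],[]),(2,[7196],[]),(0,[],[]),(0,[],[]),(0,[],[]),(0,[],[]),(0,[],[]),(0,[],[]),(0,[],[]),(0,[],[]),(0,[],[]),(0,[],[]),(27,[138,318,320,322,7071,7069,7876,7878,7880,7882,7884,7886,7888,7890,7892,7894],[137,135,133,131,300,561,559,557,555]),(0,[],[]),(0,[],[]),(0,[],[]),(0,[],[]),(0,[],[]),(0,[],[]),(0,[],[]),(0,[],[]),(0,[],[]),(0,[],[]),(0,[],[]),(0,[],[]),(0,[],[]),(0,[],[]),(0,[],[]),(0,[],[]),(4,[7203,7898,7900,7918,7920,7922,7924,7926,7928],[143,5680]),(0,[],[]),(0,[],[]),(0,[],[]),(0,[],[]),(0,[],[]),(0,[],[]),(0,[],[]),(0,[],[]),(6,[144,5318,5320,5322,7932,7934,7936,7938,7940,7942,7944,7946],[143,5680,7931]),(0,[],[]),(0,[],[]),(0,[],[]),(23,[7203,7201,7199,7874,7195,7193,7872,7180,7384,2129,4878,497,7950,7952,7954],[143,5680,7931,7949,7947,7945,7943,7941,7939,7937]),(0,[],[]),(0,[],[]),(0,[],[]),(0,[],[]),(0,[],[]),(0,[],[]),(0,[],[]),(0,[],[]),(0,[],[]),(5,[7205,7198,7200,7898,7900,7902,7904,7958,7960,7962,7964,7966,7968,7970,7972,7974],[4495,150,4502,4655]),(0,[],[]),(0,[],[]),(0,[],[]),(0,[],[]),(0,[],[]),(0,[],[]),(0,[],[]),(0,[],[]),(16,[4502,6599,7978,7980,7982,7984,7986,7988,7990,7992],[4500,154,4439,158,101,127,125,181,377,375,7977]),(0,[],[]),(0,[],[])]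

theorem ok15 : data.stepsOK st15 3750 = true := by decide +kernel

end

end Xb1
end HN
end H39
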