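import Cfsg.Agent.H39.HN.Xb1.Data

/-!
Steps of a derivation (generated data).
-/

set_option autoImplicit false
set_option maxRecDepth 100000
set_option linter.all false
set_option Elab.async false

namespace H39
namespace HN
namespace Xb1

open H93.CosetI

noncomputable section

def st20 : List Step := [(1,[9999],[]),(1,[10001,5242],[]),(1,[411,10002],[]),(1,[10005],[]),(1,[10007,4067],[]),(1,[293,10008],[]),(1,[10010],[]),(1,[10013,126],[]),(1,[65,10014],[]),(1,[10017],[]),(1,[10019,100],[]),(1,[67,10020],[]),(1,[10023],[]),(1,[10025,102],[]),(1,[69,10026],[]),(1,[10029],[]),(1,[10031,74],[]),(1,[71,10032],[]),(1,[10034],[]),(1,[10037,71],[])]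

theorem ok20 : data.stepsOK st20 5000 = true := by decide +kernel

end

end Xb1
end HN
end H39
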