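import Cfsg.Agent.H39.HN.Xb1.Data

/-!
Steps of a derivation (generated data).
-/

set_option autoImplicit false
set_option maxRecDepth 100000
set_option linter.all false
set_option Elab.async false

namespace H39
namespace HN
namespace Xb1

open H93.CosetI

noncomputable section

def st0 : List Step := [(0,[],[]),(0,[],[]),(0,[],[]),(0,[],[]),(0,[],[]),(0,[],[]),(0,[],[]),(0,[],[]),(0,[],[]),(0,[],[]),(0,[],[]),(0,[],[]),(0,[],[]),(0,[],[]),(0,[],[]),(0,[],[]),(0,[],[]),(0,[],[]),(0,[],[]),(0,[],[]),(0,[],[]),(0,[],[]),(0,[],[]),(0,[],[]),(0,[],[]),(0,[],[]),(0,[],[]),(0,[],[]),(0,[],[]),(0,[],[]),(0,[],[]),(0,[],[]),(0,[],[]),(0,[],[]),(0,[],[]),(0,[],[]),(0,[],[]),(2,[72],[]),(0,[],[]),(0,[],[]),(0,[],[]),(0,[],[]),(3,[76,78,80,82],[0]),(0,[],[]),(0,[],[]),(0,[],[]),(0,[],[]),(0,[],[]),(0,[],[]),(0,[],[]),(0,[],[]),(4,[0,2,86,88,90,92,94,96,98,100],[75]),(0,[],[]),(0,[],[]),(0,[],[])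,(0,[],[]),(0,[],[]),(0,[],[]),(0,[],[]),(0,[],[]),(0,[],[]),(0,[],[]),(0,[],[]),(6,[76,104,106,108,110,112,114,116,118,120,122,124],[75,103,101]),(0,[],[]),(0,[],[]),(0,[],[]),(0,[],[]),(0,[],[]),(0,[],[]),(0,[],[]),(0,[],[]),(0,[],[]),(0,[],[]),(0,[],[]),(0,[],[]),(0,[],[]),(0,[],[]),(0,[],[]),(8,[0,85,128,130,132,134,136,138,140,142,144,146,148,150,152,154,156],[75,103]),(0,[],[]),(0,[],[]),(0,[],[]),(0,[],[]),(0,[],[]),(0,[],[]),(0,[],[]),(0,[],[]),(0,[],[]),(0,[],[]),(11,[0,85,128,130,160,162,164,166,168,170,172,174,176,178],[75,103,101,127,125]),(0,[],[]),(0,[],[]),(0,[],[]),(0,[],[]),(0,[],[]),(0,[],[]),(0,[],[]),(0,[],[]),(0,[],[]),(0,[],[]),(0,[],[]),(0,[],[]),(0,[],[]),(5,[76,78,80,182,184,186,188,190,192,194,196,198,200,202,204,206],[75,103,159,157]),(0,[],[]),(0,[],[]),(0,[],[]),(0,[],[]),(0,[],[]),(0,[],[]),(0,[],[]),(14,[76,78,210,212,214,216,218,220,222],[75,103,101,127,1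25,123,121,119,117,115,113,111]),(0,[],[]),(0,[],[]),(15,[0,85,128,130,160,162,164,166,168,170,172,174,176,226,228],[75,103,101,127,125,123]),(0,[],[]),(0,[],[]),(0,[],[]),(0,[],[]),(0,[],[]),(16,[0,85,128,130,132,232,234,236,238,240],[75,103,101,99,97,95,93,91,89,87,4]),(0,[],[]),(0,[],[]),(0,[],[]),(0,[],[]),(0,[],[]),(0,[],[]),(0,[],[]),(17,[76,78,80,182,244,246,248,250,252,254,256],[75,103,159,157,209,207,205,203,201,199,197]),(0,[],[]),(18,[76,78,80,182,244,246,248,250,252,254,256,258,196,198,200,202,260],[75,103,159,157,155]),(0,[],[]),(0,[],[]),(0,[],[]),(0,[],[]),(0,[],[]),(0,[],[]),(0,[],[]),(0,[],[]),(0,[],[]),(0,[],[]),(0,[],[]),(0,[],[]),(0,[],[]),(0,[],[]),(7,[76,78,80,182,184,264,266,268,270,272,274,276,278,280,282,284,286,288,290],[75,103,101,127]),(0,[],[]),(0,[],[]),(19,[0,85,83,182,184,264,294,296],[75,103,101,127,293,291,289,287,285,283,281,279,277,275,273]),(0,[],[])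,(0,[],[]),(0,[],[]),(20,[0,85,128,300,302,304],[75,103,101,127,125,123,231,229,227,177,175,173,171,169,167,165,163]),(0,[],[]),(0,[],[]),(0,[],[]),(0,[],[]),(21,[0,85,128,130,160,162,308,310,312,314],[75,103,101,127,125,181,179,177,175,173,171,169,167]),(0,[],[]),(0,[],[]),(0,[],[]),(22,[0,85,128,130,132,134,136,138,318,320,322],[75,103,101,127,125,123,231,229,227,177,175,173,171,169]),(0,[],[]),(0,[],[]),(0,[],[]),(0,[],[]),(0,[],[]),(0,[],[]),(0,[],[]),(0,[],[]),(0,[],[]),(23,[0,85,83,182,244,246,326,328,330,332,334,336,338,340,342],[75,103,101,127,125,123,121,119,117,115]),(0,[],[]),(0,[],[]),(0,[],[]),(0,[],[]),(0,[],[]),(0,[],[]),(0,[],[]),(0,[],[]),(0,[],[]),(0,[],[]),(0,[],[]),(0,[],[]),(0,[],[]),(0,[],[]),(0,[],[]),(24,[0,2,4,6,346,348,350,352,354,356,358,360,362,364,366,368,370,372,374],[75,103,101,127,125,181]),(0,[],[]),(0,[],[]),(0,[],[]),(0,[],[]),(0,[],[]),(0,[],[]),(0,[]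,[]),(0,[],[]),(0,[],[]),(0,[],[]),(0,[],[]),(0,[],[]),(0,[],[]),(0,[],[]),(0,[],[]),(0,[],[]),(25,[0,2,86,88,378,380,382,384,386,388,390,392,394,396,398,400,402,404,406,408],[75,103,101,127,293]),(0,[],[]),(0,[],[]),(26,[76,78,80,182,244,246,326,328,330,332,334,336,338,340,412,414],[75,103,101,127,125,123,121,119,117]),(0,[],[]),(0,[],[]),(27,[0,2,86,88,378,380,382,384,386,388,390,392,394,396,398,418,420],[75,103,101,127,293,411,409,407]),(0,[],[]),(0,[],[]),(28,[0,2,86,88,378,380,382,384,386,424,426],[75,103,101,127,293,411,409,407,405,403,401,399,397,395]),(0,[],[]),(0,[],[]),(0,[],[]),(0,[],[]),(29,[76,78,210,212,214,430,432,434,436],[75,103,101,127,125,123,121,119,117,115,113,111,225,223,221,219]),(2,[2],[]),(0,[],[]),(0,[],[]),(0,[],[]),(0,[],[]),(0,[],[]),(0,[],[]),(0,[],[]),(0,[],[]),(0,[],[]),(0,[],[]),(6,[1,72,442,444,446,448,450,452,454,456,458,460],[441,4,243]),(0,[],[]),(0,[],[]),(0,[],[]),(0,[],[]),(0,[],[]),(0,[],[]),(0,[],[]),(0,[],[]),(0,[],[]),(0,[],[]),(0,[],[]),(8,[85,83,182,184,264,266,464,466,468,470,472,474,476,478,480,482,484],[441,4]),(0,[],[]),(0,[],[]),(0,[],[]),(0,[],[]),(0,[],[]),(0,[],[])]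

theorem ok0 : data.stepsOK st0 0 = true := by decide +kernel

def st1 : List Step := [(0,[],[]),(0,[],[]),(11,[85,83,182,184,186,188,488,490,492,494,496,498,500,502],[441,4,243,463,461]),(0,[],[]),(0,[],[]),(0,[],[]),(0,[],[]),(0,[],[]),(0,[],[]),(0,[],[]),(0,[],[]),(0,[],[]),(0,[],[]),(0,[],[]),(0,[],[]),(5,[1,76,78,210,506,508,510,512,514,516,518,520,522,524,526,528],[441,4,487,485]),(0,[],[]),(0,[],[]),(0,[],[]),(0,[],[]),(0,[],[]),(0,[],[]),(14,[1,76,104,532,534,536,538,540,542],[441,4,243,463,461,459,457,455,453,451,449,447]),(0,[],[]),(0,[],[]),(15,[85,83,182,184,186,188,488,490,492,494,496,498,500,546,548],[441,4,243,463,461,459]),(0,[],[]),(0,[],[]),(0,[],[]),(0,[],[]),(16,[85,83,182,184,264,294,552,554,556,558],[441,4,243,241,239,237,235,233,133,131,300]),(0,[],[]),(0,[],[]),(0,[],[]),(0,[],[]),(0,[],[]),(0,[],[]),(17,[1,76,78,210,212,562,564,566,568,570,572],[441,4,487,485,5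31,529,527,525,523,521,519]),(0,[],[]),(18,[1,76,78,210,212,562,564,566,568,570,572,574,518,520,522,524,576],[441,4,487,485,483]),(0,[],[]),(0,[],[]),(0,[],[]),(0,[],[]),(0,[],[]),(0,[],[]),(0,[],[]),(0,[],[]),(0,[],[]),(0,[],[]),(0,[],[]),(0,[],[]),(0,[],[]),(0,[],[]),(7,[1,76,78,210,506,580,582,584,586,588,590,592,594,596,598,600,602,604,606],[441,4,243,463]),(0,[],[]),(20,[85,83,182,244,246,248,250,252,254],[441,4,243,463,461,459,551,549,547,501,499,497,495,493,491]),(1,[613],[]),(1,[615,490],[]),(1,[615,489],[]),(1,[254,618],[]),(1,[620],[]),(1,[623,253],[]),(1,[188,624],[]),(1,[623,254],[]),(1,[627],[]),(1,[631,251],[]),(0,[],[]),(0,[],[]),(0,[],[]),(22,[85,83,182,184,264,266,464,466,634,636,638],[441,4,243,463,461,459,551,549,547,501,499,497,495,493]),(0,[],[]),(0,[],[]),(0,[],[]),(0,[],[]),(0,[],[]),(0,[],[]),(0,[],[]),(0,[],[]),(0,[],[]),(23,[85,83,81,210,212,562,642,644,646,648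,650,652,654,656,658],[441,4,243,463,461,459,457,455,453,451]),(0,[],[]),(0,[],[]),(0,[],[]),(0,[],[]),(0,[],[]),(0,[],[]),(0,[],[]),(0,[],[]),(0,[],[]),(0,[],[]),(0,[],[]),(0,[],[]),(0,[],[]),(0,[],[]),(0,[],[]),(0,[],[]),(24,[85,128,300,662,664,666,668,670,672,674,676,678,680,682,684,686,688,690,692],[441,4,243,463,461,505]),(0,[],[]),(0,[],[]),(0,[],[]),(0,[],[]),(0,[],[]),(0,[],[]),(0,[],[]),(0,[],[]),(0,[],[]),(0,[],[]),(0,[],[]),(0,[],[]),(0,[],[]),(0,[],[]),(0,[],[]),(25,[85,128,130,132,134,696,698,700,702,704,706,708,710,712,714,716,718,720,722,724],[441,4,243,463,609]),(0,[],[]),(0,[],[]),(26,[1,76,78,210,212,562,642,644,646,648,650,652,654,656,728,730],[441,4,243,463,461,459,457,455,453]),(0,[],[]),(0,[],[]),(27,[85,128,130,132,134,696,698,700,702,704,706,708,710,712,714,734,736],[441,4,243,463,609,727,725,723]),(0,[],[]),(0,[],[]),(0,[],[]),(0,[],[]),(29,[1,76,104,532,534,740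,742,744,746],[441,4,243,463,461,459,457,455,453,451,449,447,545,543,541,539]),(0,[],[]),(0,[],[]),(3,[86,750,752],[4,487]),(0,[],[]),(0,[],[]),(0,[],[]),(0,[],[]),(0,[],[]),(0,[],[]),(4,[4,6,346,756,758,760,762,764,766],[3,85]),(0,[],[]),(0,[],[]),(0,[],[]),(0,[],[]),(0,[],[]),(0,[],[]),(0,[],[]),(0,[],[]),(0,[],[]),(6,[86,88,378,770,772,774,776,778,780,782,784,786],[3,85,769]),(0,[],[]),(0,[],[]),(0,[],[]),(0,[],[]),(0,[],[]),(0,[],[]),(0,[],[]),(0,[],[]),(0,[],[]),(0,[],[]),(0,[],[]),(0,[],[]),(0,[],[]),(0,[],[]),(8,[4,487,790,792,794,796,798,800,802,804,806,808,810,812,814,816],[3,85,83]),(0,[],[]),(0,[],[]),(0,[],[]),(0,[],[]),(0,[],[]),(0,[],[]),(0,[],[]),(0,[],[]),(0,[],[]),(0,[],[]),(11,[4,487,790,792,820,822,824,826,828,830,832,834,836,838],[3,85,769,789,787]),(0,[],[]),(0,[],[]),(0,[],[]),(0,[],[]),(0,[],[]),(0,[],[]),(0,[],[]),(0,[],[]),(0,[],[]),(0,[],[]),(0,[],[]),(0,[],[])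,(0,[],[]),(5,[86,750,752,842,844,846,848,850,852,854,856,858,860,862,864,866],[3,85,83,819]),(0,[],[]),(0,[],[]),(0,[],[]),(0,[],[]),(0,[],[]),(0,[],[]),(0,[],[]),(14,[86,750,870,872,874,876,878,880,882],[3,85,769,789,787,785,783,781,779,777,775,773]),(0,[],[]),(0,[],[]),(15,[4,487,790,792,820,822,824,826,828,830,832,834,836,886,888],[3,85,769,789,787,785]),(0,[],[]),(0,[],[]),(0,[],[]),(0,[],[]),(0,[],[]),(16,[4,487,790,792,794,892,894,896,898,900],[3,85,769,767,765,763,761,759,757,347,8]),(0,[],[]),(0,[],[]),(0,[],[]),(0,[],[]),(0,[],[]),(0,[],[]),(0,[],[]),(17,[86,750,752,842,904,906,908,910,912,914,916],[3,85,83,819,869,867,865,863,861,859,857]),(0,[],[]),(18,[86,750,752,842,904,906,908,910,912,914,916,918,856,858,860,862,920],[3,85,83,819,817]),(0,[],[]),(0,[],[]),(0,[],[]),(0,[],[]),(0,[],[]),(0,[],[]),(0,[],[]),(0,[],[]),(0,[],[]),(0,[],[]),(0,[],[]),(0,[],[]),(0,[],[]),(0,[],[]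),(7,[86,750,752,842,844,924,926,928,930,932,934,936,938,940,942,944,946,948,950],[3,85,769,789]),(0,[],[]),(0,[],[]),(0,[],[]),(0,[],[]),(0,[],[]),(0,[],[]),(21,[4,487,790,792,820,822,958,960,962,964],[3,85,769,789,787,841,839,837,835,833,831,829,827]),(0,[],[]),(0,[],[]),(0,[],[]),(22,[4,487,790,792,794,796,798,800,968,970,972],[3,85,769,789,787,785,891,889,887,837,835,833,831,829]),(0,[],[]),(0,[],[]),(0,[],[]),(0,[],[]),(0,[],[]),(0,[],[]),(0,[],[]),(0,[],[]),(0,[],[]),(23,[4,487,755,842,904,906,976,978,980,982,984,986,988,990,992],[3,85,769,789,787,785,783,781,779,777]),(0,[],[]),(0,[],[])]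

theorem ok1 : data.stepsOK st1 250 = true := by decide +kernel

def st2 : List Step := [(0,[],[]),(0,[],[]),(0,[],[]),(0,[],[]),(0,[],[]),(0,[],[]),(0,[],[]),(0,[],[]),(0,[],[]),(0,[],[]),(0,[],[]),(0,[],[]),(0,[],[]),(0,[],[]),(24,[4,6,8,996,998,1000,1002,1004,1006,1008,1010,1012,1014,1016,1018,1020,1022,1024,1026],[3,85,769,789,787,841]),(0,[],[]),(0,[],[]),(0,[],[]),(0,[],[]),(0,[],[]),(0,[],[]),(0,[],[]),(0,[],[]),(0,[],[]),(0,[],[]),(0,[],[]),(0,[],[]),(0,[],[]),(0,[],[]),(0,[],[]),(0,[],[]),(25,[4,6,346,756,1030,1032,1034,1036,1038,1040,1042,1044,1046,1048,1050,1052,1054,1056,1058,1060],[3,85,769,789,953]),(0,[],[]),(0,[],[]),(26,[86,750,752,842,904,906,976,978,980,982,984,986,988,990,1064,1066],[3,85,769,789,787,785,783,781,779]),(0,[],[]),(2,[6],[243]),(1,[1073],[]),(1,[1075,242],[]),(1,[1075,241],[]),(1,[347,1078],[]),(1,[1075,463],[]),(1,[9,1082],[]),(1,[1080],[]),(1,[1087,7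56],[]),(1,[1087,348],[]),(1,[1087,347],[]),(1,[1085],[]),(1,[1095,461],[]),(1,[902,1096],[]),(1,[1095,609],[]),(1,[11,1100],[]),(1,[1098],[]),(1,[1105,902],[]),(1,[1105,901],[]),(1,[504,1108],[]),(1,[1103],[]),(1,[1113,727],[]),(1,[1113,607],[]),(1,[1111],[]),(1,[1119,899],[]),(1,[694,1120],[]),(1,[1123],[]),(1,[1125,897],[]),(1,[692,1126],[]),(1,[1129],[]),(1,[1131,895],[]),(1,[690,1132],[]),(1,[1135],[]),(1,[1137,893],[]),(1,[688,1138],[]),(1,[1141],[]),(1,[1143,795],[]),(1,[686,1144],[]),(1,[1143,796],[]),(1,[1147],[]),(1,[1151,820],[]),(1,[684,1152],[]),(1,[1151,793],[]),(1,[1155],[]),(1,[1159,822],[]),(0,[],[]),(0,[],[]),(0,[],[]),(0,[],[]),(0,[],[]),(0,[],[]),(8,[487,755,842,844,924,926,1162,1164,1166,1168,1170,1172],[1077,8,10,1114,725,723,721]),(0,[],[]),(0,[],[]),(0,[],[]),(0,[],[]),(0,[],[]),(0,[],[]),(0,[],[]),(0,[],[]),(11,[487,755,842,844,846,848,1176,1178,1180,1182,1184,1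186,1188,1190],[1077,8,1107,459,457]),(0,[],[]),(0,[],[]),(0,[],[]),(0,[],[]),(0,[],[]),(0,[],[]),(0,[],[]),(0,[],[]),(0,[],[]),(0,[],[]),(0,[],[]),(0,[],[]),(5,[5,86,750,870,1194,1196,1198,1200,1202,1204,1206,1208,1210,1212,1214,1216],[1077,8,10,1114]),(0,[],[]),(0,[],[]),(15,[487,755,842,844,846,848,1176,1178,1180,1182,1184,1186,1188,1220,1222],[1077,8,1107,459,457,455]),(0,[],[]),(0,[],[]),(0,[],[]),(0,[],[]),(16,[487,755,842,844,924,954,1226,1228,1230,1232],[1077,8,1107,505,695,693,691,689,687,1156,956]),(0,[],[]),(0,[],[]),(0,[],[]),(0,[],[]),(0,[],[]),(0,[],[]),(17,[5,86,750,870,872,1236,1238,1240,1242,1244,1246],[1077,8,10,1114,1219,1217,1215,1213,1211,1209,1207]),(0,[],[]),(18,[5,86,750,870,872,1236,1238,1240,1242,1244,1246,1248,1206,1208,1210,1212,1250],[1077,8,10,1114,725]),(0,[],[]),(0,[],[]),(0,[],[]),(0,[],[]),(20,[487,755,842,904,906,908,910,912,914],[1077,8,1107,459,457,4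55,1225,1223,1221,1189,1187,1185,1183,1181,1179]),(1,[1263],[]),(1,[1265,1178],[]),(1,[1265,1177],[]),(1,[914,1268],[]),(1,[1270],[]),(1,[1273,914],[]),(0,[],[]),(0,[],[]),(0,[],[]),(22,[487,755,842,844,924,926,1162,1164,1276,1278,1280],[1077,8,1107,459,457,455,1225,1223,1221,1189,1187,1185,1183,1181]),(0,[],[]),(0,[],[]),(0,[],[]),(0,[],[]),(0,[],[]),(0,[],[]),(0,[],[]),(0,[],[]),(23,[487,755,753,870,872,1236,1284,1286,1288,1290,1292,1294,1296,1298],[1077,8,1107,459,457,455,453,451,449,447,545]),(0,[],[]),(0,[],[]),(0,[],[]),(0,[],[]),(0,[],[]),(0,[],[]),(0,[],[]),(0,[],[]),(0,[],[]),(0,[],[]),(0,[],[]),(0,[],[]),(0,[],[]),(0,[],[]),(0,[],[]),(0,[],[]),(24,[487,790,956,1302,1304,1306,1308,1310,1312,1314,1316,1318,1320,1322,1324,1326,1328,1330,1332],[1077,8,1107,459,457,1193]),(0,[],[]),(0,[],[]),(0,[],[]),(0,[],[]),(0,[],[]),(0,[],[]),(0,[],[]),(0,[],[]),(0,[],[]),(0,[],[]),(0,[],[]),(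0,[],[]),(0,[],[]),(0,[],[]),(0,[],[]),(25,[487,790,1157,686,1148,1336,1338,1340,1342,1344,1346,1348,1350,1352,1354,1356,1358,1360,1362,1364],[1077,8,1107,459,551]),(0,[],[]),(0,[],[]),(0,[],[]),(0,[],[]),(29,[5,86,88,90,92,1368,1370,1372,1374],[1077,8,1107,459,457,455,453,451,449,447,445,443,103,101,99,97]),(3,[1093,1090],[8,10,1116]),(0,[],[]),(0,[],[]),(0,[],[]),(4,[8,996,998,1380,1382,1384],[7,487,485,483,481]),(0,[],[]),(0,[],[]),(0,[],[]),(0,[],[]),(0,[],[]),(0,[],[]),(0,[],[]),(0,[],[]),(6,[1093,1088,1030,1388,1390,1392,1394,1396,1398,1400,1402],[7,487,485,531]),(0,[],[]),(0,[],[]),(0,[],[]),(0,[],[]),(0,[],[]),(0,[],[]),(0,[],[]),(0,[],[]),(0,[],[]),(0,[],[]),(0,[],[]),(8,[8,10,12,14,16,1406,1408,1410,1412,1414,1416,1418,1420,1422,1424,1426],[7,487,755]),(0,[],[]),(0,[],[]),(0,[],[]),(0,[],[]),(0,[],[]),(0,[],[]),(0,[],[]),(0,[],[]),(0,[],[]),(0,[],[]),(11,[8,10,12,14,1430,1432,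1434,1436,1438,1440,1442,1444,1446,1448],[7,487,485,531,1405]),(0,[],[]),(0,[],[]),(0,[],[]),(0,[],[]),(0,[],[]),(0,[],[]),(0,[],[]),(0,[],[]),(0,[],[]),(0,[],[]),(0,[],[]),(0,[],[]),(0,[],[]),(5,[1093,1090,1378,1452,1454,1456,1458,1460,1462,1464,1466,1468,1470,1472,1474,1476],[7,487,755,1429]),(0,[],[]),(0,[],[]),(0,[],[]),(0,[],[]),(0,[],[]),(14,[1093,1090,350,352,1480,1482,1484,1486,1488],[7,487,485,531,1405,1403,1401,1399,1397,1395,1393,1391]),(0,[],[]),(0,[],[]),(0,[],[]),(16,[8,10,12,14,16,18,20,22,1492,1494,1496],[7,487,485,483,481,1387,1385,1383,1381,999])]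

theorem ok2 : data.stepsOK st2 500 = true := by decide +kernel

def st3 : List Step := [(0,[],[]),(0,[],[]),(0,[],[]),(0,[],[]),(0,[],[]),(0,[],[]),(0,[],[]),(17,[1093,1090,1378,1452,1500,1502,1504,1506,1508,1510,1512],[7,487,755,1429,1479,1477,1475,1473,1471,1469,1467]),(0,[],[]),(18,[1093,1090,1378,1452,1500,1502,1504,1506,1508,1510,1512,1514,1466,1468,1470,1472,1516],[7,487,755,1429,1427]),(0,[],[]),(0,[],[]),(0,[],[]),(0,[],[]),(0,[],[]),(0,[],[]),(0,[],[]),(21,[8,10,12,14,1430,1432,1526,1528,1530,1532],[7,487,485,531,1405,1451,1449,1447,1445,1443,1441,1439,1437]),(0,[],[]),(0,[],[]),(0,[],[]),(0,[],[]),(0,[],[]),(0,[],[]),(0,[],[]),(0,[],[]),(0,[],[]),(0,[],[]),(0,[],[]),(0,[],[]),(0,[],[]),(0,[],[]),(0,[],[]),(0,[],[]),(24,[8,996,1499,1536,1538,1540,1542,1544,1546,1548,1550,1552,1554,1556,1558,1560,1562,1564,1566],[7,487,485,531,1405,1451]),(0,[],[]),(0,[],[]),(0,[],[]),(0,[],[]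),(0,[],[]),(0,[],[]),(0,[],[]),(0,[],[]),(0,[],[]),(0,[],[]),(0,[],[]),(0,[],[]),(0,[],[]),(0,[],[]),(0,[],[]),(0,[],[]),(25,[8,996,998,1380,1570,1572,1574,1576,1578,1580,1582,1584,1586,1588,1590,1592,1594,1596,1598,1600],[7,487,485,531,529]),(0,[],[]),(2,[996],[1107]),(1,[1606],[]),(1,[1609,997],[]),(1,[1609,998],[]),(1,[504,1612],[]),(1,[1609,1499],[]),(1,[458,1616],[]),(1,[1615],[]),(1,[1621,1380],[]),(1,[1621,1000],[]),(1,[502,1624],[]),(1,[1619],[]),(1,[1629,1536],[]),(1,[1629,1497],[]),(1,[456,1632],[]),(1,[1627],[]),(1,[1637,1002],[]),(1,[1635],[]),(1,[1641,1495],[]),(1,[1192,1642],[]),(1,[1645],[]),(1,[1647,1493],[]),(1,[1334,1648],[]),(1,[1650],[]),(1,[1653,1334],[]),(1,[1653,1333],[]),(1,[22,1656],[]),(1,[1659],[]),(1,[1661,1331],[]),(1,[20,1662],[]),(1,[1665],[]),(1,[1667,1329],[]),(1,[18,1668],[]),(1,[1671],[]),(1,[1673,1327],[]),(1,[16,1674],[]),(1,[1677],[]),(1,[1679,1325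],[]),(1,[1431,1680],[]),(1,[1682],[]),(1,[1685,1432],[]),(1,[1685,1431],[]),(0,[],[]),(0,[],[]),(0,[],[]),(0,[],[]),(0,[],[]),(0,[],[]),(11,[10,1116,1452,1454,1456,1458,1690,1692,1694,1696,1698,1700],[1107,459,457,455,453,733,731]),(0,[],[]),(0,[],[]),(0,[],[]),(0,[],[]),(0,[],[]),(0,[],[]),(0,[],[]),(0,[],[]),(0,[],[]),(0,[],[]),(0,[],[]),(0,[],[]),(5,[9,1093,1090,350,1704,1706,1708,1710,1712,1714,1716,1718,1720,1722,1724,1726],[1107,459,551,1367]),(0,[],[]),(0,[],[]),(0,[],[]),(0,[],[]),(16,[10,1116,1452,1454,1520,1522,1730,1732,1734,1736],[1107,459,457,1193,1655,23,21,19,17,15,1524]),(20,[10,1116,1452,1500,1502,1504,1506,1508,1510],[1107,459,457,455,453,451,661,659,728,1703,1701,1699,1697,1695,1693]),(1,[1741],[]),(1,[1743,1691],[]),(1,[1510,1744],[]),(1,[1746],[]),(1,[1749,1509],[]),(1,[1458,1750],[]),(1,[1749,1510],[]),(1,[1753],[]),(1,[1757,1507],[]),(23,[10,1116,1379,350,352,354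,356,358,360,362,364,366],[1107,459,457,455,453,451,449,447,445,443,103,159,157,155]),(1,[1760],[]),(1,[1763,368],[]),(1,[1763,367],[]),(1,[262,1766],[]),(1,[1769],[]),(1,[1771,365],[]),(0,[],[]),(0,[],[]),(0,[],[]),(0,[],[]),(0,[],[]),(0,[],[]),(0,[],[]),(26,[9,1093,1090,350,352,354,356,358,360,362,1773,262,154,156,1784,1786],[1107,459,457,455,453,451,449,447,445]),(0,[],[]),(0,[],[]),(0,[],[]),(0,[],[]),(29,[9,1093,1088,758,760,1790,1792,1794,1796],[1107,459,457,455,453,451,449,447,445,443,73,0,85,769,767,765]),(2,[12],[1114]),(1,[1801],[]),(1,[1803,1115],[]),(1,[1803,725],[]),(1,[15,1806],[]),(1,[1803,1219],[]),(1,[1525,1810],[]),(1,[1809],[]),(1,[1815,723],[]),(1,[1815,1253],[]),(1,[1688,1818],[]),(1,[1812],[]),(1,[1823,1774],[]),(1,[1823,1739],[]),(1,[1823,1525],[]),(1,[1820],[]),(1,[1831,1686],[]),(1,[1831,1688],[]),(0,[],[]),(0,[],[]),(0,[],[]),(0,[],[]),(0,[],[]),(0,[],[]),(0,[]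,[]),(6,[11,1611,505,1622,1570,1836,1838,1840,1842,1844,1846,1848],[1805,1829,1826]),(14,[11,9,1076,487,790,1157,686,688,690,692],[1805,1829,1826,1851,1849,1847,1845,1843,1841,1839,1837,1571]),(1,[1853],[]),(1,[1855,1623],[]),(1,[1855,1382],[]),(1,[692,1858],[]),(1,[1861],[]),(1,[1863,1384],[]),(0,[],[]),(0,[],[]),(0,[],[]),(0,[],[]),(0,[],[]),(0,[],[]),(0,[],[]),(0,[],[]),(0,[],[]),(0,[],[]),(4,[1829,1824,1776,1876,1878,1880,1882,1884],[13,1116,605]),(0,[],[]),(0,[],[]),(0,[],[]),(0,[],[]),(0,[],[]),(6,[14,16,1406,1408,1888,1890,1892,1894,1896],[13,1116,605,603,601,599]),(0,[],[]),(0,[],[]),(0,[],[]),(0,[],[]),(0,[],[]),(0,[],[]),(0,[],[]),(0,[],[]),(0,[],[]),(0,[],[]),(0,[],[]),(0,[],[]),(0,[],[]),(0,[],[]),(8,[1829,1217,1900,1902,1904,1906,1908,1910,1912,1914,1916,1918,1920,1922,1924,1926],[13,1116,1379]),(0,[],[]),(0,[],[]),(0,[],[]),(0,[],[]),(0,[],[]),(0,[],[]),(0,[],[]),(0,[],[])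,(0,[],[]),(0,[],[]),(0,[],[]),(0,[],[]),(0,[],[]),(0,[],[]),(0,[],[]),(0,[],[]),(0,[],[]),(0,[],[]),(7,[14,1835,1251,1934,1936,1938,1940,1942,1944,1946,1948,1950,1952,1954,1956,1958,1960,1962,1964],[13,1116,605,603]),(0,[],[]),(0,[],[]),(0,[],[]),(0,[],[]),(2,[16],[1816]),(1,[1977],[]),(1,[1979,1817],[]),(1,[1979,721],[]),(1,[1407,1982],[]),(1,[1979,739],[]),(1,[19,1986],[]),(1,[1984],[]),(1,[1991,1408],[]),(1,[1991,1407],[]),(1,[1989],[]),(1,[1997,737],[])]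

theorem ok3 : data.stepsOK st3 750 = true := by decide +kernel

end

end Xb1
end HN
end H39
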